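import Mathlib

/-!
Minimal normal subgroups of finite groups and the factor decomposition used for
primitive groups.
-/

open MulAction

namespace Cfsg.Agent.H80

variable {G : Type*} [Group G]

/-- `N` is minimal among the non-trivial subgroups normalised by `A`. -/
structure MinimalNormalized (A N : Subgroup G) : Prop where
  le : N ≤ A
  ne_bot : N ≠ ⊥
  conj_mem : ∀ a ∈ A, ∀ x ∈ N, a * x * a⁻¹ ∈ N
  eq_of_le : ∀ M : Subgroup G, M ≤ N → M ≠ ⊥ → (∀ a ∈ A, ∀ x ∈ M, a * x * a⁻¹ ∈ M) → M = N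

/-- A finite group has, below any non-trivial normalised subgroup, a minimal one. -/
theorem exists_minimalNormalized [Finite G] (A N₀ : Subgroup G) (h0 : N₀ ≠ ⊥) (hle : N₀ ≤ A)
    (hconj : ∀ a ∈ A, ∀ x ∈ N₀, a * x * a⁻¹ ∈ N₀) :
    ∃ N, N ≤ N₀ ∧ MinimalNormalized A N := by
  obtain ⟨N, hN, hmin⟩ := exists_minimal_le_of_wellFoundedLT
    (fun K : Subgroup G => K ≠ ⊥ ∧ ∀ a ∈ A, ∀ x ∈ K, a * x * a⁻¹ ∈ K) N₀ ⟨h0, hconj⟩
  exact ⟨N, hN, hN.trans hle, hmin.prop.1, hmin.prop.2, fun M hM hM0 hMc =>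
    le_antisymm hM (hmin.le_of_le ⟨hM0, hMc⟩ hM)⟩

namespace MinimalNormalized

variable {N : Subgroup G}

/-- A minimal normal subgroup is normal. -/
theorem normal (h : MinimalNormalized ⊤ N) : N.Normal :=
  ⟨fun x hx a => h.conj_mem a trivial x hx⟩

/-- A minimal normal subgroup contains no smaller non-trivial normal subgroup. -/
theorem eq_of_normal (h : MinimalNormalized ⊤ N) {M : Subgroup G} (hM : M.Normal) (hle : M ≤ N)
    (hne : M ≠ ⊥) : M = N :=
  h.eq_of_le M hle hne fun a _ x hx => hM.conj_mem x hx a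

/-- An abelian minimal normal subgroup of a finite group is elementary abelian. -/
theorem exists_prime_pow_eq_one [Finite G] (h : MinimalNormalized ⊤ N)
    (hc : ∀ x ∈ N, ∀ y ∈ N, x * y = y * x) :
    ∃ r : ℕ, r.Prime ∧ ∀ x ∈ N, x ^ r = 1 := by
  have : Nontrivial N := (Subgroup.nontrivial_iff_ne_bot N).2 h.ne_bot
  have hr : (Nat.card N).minFac.Prime := Nat.minFac_prime (by
    have := Finite.one_lt_card (α := N); omega)
  haveI := Fact.mk hr
  obtain ⟨z, hz⟩ := exists_prime_orderOf_dvd_card' (G := N) _ (Nat.minFac_dvd (Nat.card N))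
  set r := (Nat.card N).minFac
  let M : Subgroup G :=
    { carrier := {x | x ∈ N ∧ x ^ r = 1}
      one_mem' := ⟨one_mem N, one_pow r⟩
      mul_mem' := fun {x y} hx hy => ⟨mul_mem hx.1 hy.1, by
        rw [Commute.mul_pow (hc x hx.1 y hy.1), hx.2, hy.2, one_mul]⟩
      inv_mem' := fun {x} hx => ⟨inv_mem hx.1, by rw [inv_pow, hx.2, inv_one]⟩ }
  have hM : M = N := by
    refine h.eq_of_le M (fun x hx => hx.1) ?_ fun a _ x hx =>
      ⟨h.conj_mem a trivial x hx.1, by rw [conj_pow, hx.2, mul_one, mul_inv_cancel]⟩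
    intro hb
    have hzM : z.1 ∈ M := ⟨z.2, by
      rw [← SubgroupClass.coe_pow, ← hz, pow_orderOf_eq_one, OneMemClass.coe_one]⟩
    rw [hb, Subgroup.mem_bot] at hzM
    rw [show z = 1 from Subtype.ext hzM, orderOf_one] at hz
    exact hr.one_lt.ne hz
  exact ⟨r, hr, fun x hx => (hM.symm ▸ hx : x ∈ M).2⟩

/-- A non-abelian minimal normal subgroup has trivial centre. -/
theorem eq_one_of_central (h : MinimalNormalized ⊤ N)
    (hna : ¬ ∀ x ∈ N, ∀ y ∈ N, x * y = y * x) {z : G} (hz : z ∈ N)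
    (hzc : ∀ y ∈ N, z * y = y * z) : z = 1 := by
  by_contra hz1
  have := h.normal
  have hM := h.eq_of_normal (M := N ⊓ Subgroup.centralizer (N : Set G)) inferInstance inf_le_left
    (fun hb => hz1 (Subgroup.mem_bot.1
      (hb ▸ ⟨hz, Subgroup.mem_centralizer_iff.2 fun y hy => (hzc y hy).symm⟩)))
  refine hna fun x hx y hy => ?_
  rw [← hM] at hx
  exact (Subgroup.mem_centralizer_iff.1 hx.2 y hy).symm

end MinimalNormalized

/-- A minimal normal subgroup of a non-abelian minimal normal subgroup, with the part of the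
latter centralising it. -/
structure SimpleFactor (N T : Subgroup G) : Prop where
  minimal : MinimalNormalized ⊤ N
  factor : MinimalNormalized N T
  nonabelian : ¬ ∀ x ∈ T, ∀ y ∈ T, x * y = y * x
  decomp : ∀ x ∈ N, ∃ t ∈ T, ∃ b ∈ N ⊓ Subgroup.centralizer (T : Set G), x = t * b

/-- Every non-abelian minimal normal subgroup of a finite group has such a factor. -/
theorem exists_simpleFactor [Finite G] {N : Subgroup G} (h : MinimalNormalized ⊤ N)
    (hna : ¬ ∀ x ∈ N, ∀ y ∈ N, x * y = y * x) : ∃ T, SimpleFactor N T := by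
  obtain ⟨T, -, hT⟩ := exists_minimalNormalized N N h.ne_bot le_rfl
    (fun a ha x hx => mul_mem (mul_mem ha hx) (inv_mem ha))
  set B := N ⊓ Subgroup.centralizer (T : Set G)
  have hB : ∀ a ∈ N, ∀ b ∈ B, a * b * a⁻¹ ∈ B := by
    intro a ha b hb
    refine ⟨N.mul_mem (N.mul_mem ha hb.1) (N.inv_mem ha), Subgroup.mem_centralizer_iff.2 fun t ht => ?_⟩
    have h1 := hT.conj_mem a⁻¹ (inv_mem ha) t ht
    have h2 := Subgroup.mem_centralizer_iff.1 hb.2 _ h1
    simp only [inv_inv] at h2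
    calc t * (a * b * a⁻¹) = a * ((a⁻¹ * t * a) * b) * a⁻¹ := by group
      _ = a * (b * (a⁻¹ * t * a)) * a⁻¹ := by rw [h2]
      _ = a * b * a⁻¹ * t := by group
  let J : Subgroup G :=
    { carrier := {x | ∃ t ∈ T, ∃ b ∈ B, x = t * b}
      one_mem' := ⟨1, one_mem T, 1, one_mem B, by simp⟩
      mul_mem' := by
        rintro _ _ ⟨t, ht, b, hb, rfl⟩ ⟨t', ht', b', hb', rfl⟩
        refine ⟨t * t', mul_mem ht ht', b * b', mul_mem hb hb', ?_⟩
        have := Subgroup.mem_centralizer_iff.1 hb.2 t' ht'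
        calc t * b * (t' * b') = t * (b * t') * b' := by group
          _ = t * (t' * b) * b' := by rw [this]
          _ = t * t' * (b * b') := by group
      inv_mem' := by
        rintro _ ⟨t, ht, b, hb, rfl⟩
        refine ⟨t⁻¹, inv_mem ht, b⁻¹, inv_mem hb, ?_⟩
        have := Subgroup.mem_centralizer_iff.1 (inv_mem hb).2 _ (inv_mem ht)
        rw [mul_inv_rev, this] }
  -- every conjugate of `T` lies in `T B`
  have hconj : ∀ g : G, ∀ t ∈ T, g * t * g⁻¹ ∈ J := by
    intro g t ht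
    have hN := h.normal
    set T' := T.map (MulAut.conj g).toMonoidHom
    have hT'N : T' ≤ N := by
      rintro _ ⟨y, hy, rfl⟩; exact hN.conj_mem y (hT.le hy) g
    have hT'conj : ∀ a ∈ N, ∀ x ∈ T', a * x * a⁻¹ ∈ T' := by
      rintro a ha _ ⟨y, hy, rfl⟩
      refine ⟨(g⁻¹ * a * g) * y * (g⁻¹ * a * g)⁻¹, hT.conj_mem _ ?_ y hy, ?_⟩
      · simpa using hN.conj_mem a ha g⁻¹
      · simp [MulAut.conj_apply, mul_assoc]
    have hmem : g * t * g⁻¹ ∈ T' := ⟨t, ht, rfl⟩
    by_cases hI : T ⊓ T' = ⊥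
    · refine ⟨1, one_mem T, _, ⟨hT'N hmem, Subgroup.mem_centralizer_iff.2 fun u hu => ?_⟩,
        (one_mul _).symm⟩
      set v := g * t * g⁻¹
      have h1 : u * v * u⁻¹ * v⁻¹ ∈ T ⊓ T' := by
        constructor
        · rw [show u * v * u⁻¹ * v⁻¹ = u * (v * u⁻¹ * v⁻¹) by group]
          exact mul_mem hu (hT.conj_mem v (hT'N hmem) _ (inv_mem hu))
        · exact T'.mul_mem (hT'conj u (hT.le hu) v hmem) (T'.inv_mem hmem)
      rw [hI, Subgroup.mem_bot] at h1
      exact mul_inv_eq_iff_eq_mul.1 (mul_inv_eq_one.1 h1)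
    · have heq := hT.eq_of_le _ inf_le_left hI fun a ha x hx =>
        ⟨hT.conj_mem a ha x hx.1, hT'conj a ha x hx.2⟩
      have hle : T ≤ T' := inf_eq_left.1 heq
      have : T = T' := SetLike.coe_injective (Set.eq_of_subset_of_ncard_le hle (by
        rw [Subgroup.coe_map]; exact Set.ncard_image_le))
      exact ⟨_, this ▸ hmem, 1, one_mem B, (mul_one _).symm⟩
  have hN := h.normal
  have hNJ : N ≤ J := by
    have hTne : Subgroup.normalClosure (T : Set G) = N := by
      refine h.eq_of_normal inferInstance (Subgroup.normalClosure_le_normal hT.le) ?_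
      intro hb
      exact hT.ne_bot (eq_bot_iff.2 (Subgroup.le_normalClosure.trans hb.le))
    rw [← hTne, Subgroup.normalClosure, Subgroup.closure_le]
    intro x hx
    obtain ⟨t, ht, hxt⟩ := Group.mem_conjugatesOfSet_iff.1 hx
    obtain ⟨c, rfl⟩ := isConj_iff.1 hxt
    exact hconj c t ht
  refine ⟨T, h, hT, fun hab => ?_, fun x hx => hNJ hx⟩
  obtain ⟨z, hz, hz1⟩ := (Subgroup.bot_or_exists_ne_one T).resolve_left hT.ne_bot
  refine hz1 (h.eq_one_of_central hna (hT.le hz) fun y hy => ?_)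
  obtain ⟨t, ht, b, hb, rfl⟩ := hNJ hy
  have := Subgroup.mem_centralizer_iff.1 hb.2 z hz
  calc z * (t * b) = (z * t) * b := by group
    _ = (t * z) * b := by rw [hab z hz t ht]
    _ = t * (z * b) := by group
    _ = t * b * z := by rw [this]; group

namespace SimpleFactor

variable {N T : Subgroup G}

/-- The factor meets its centraliser trivially. -/
theorem eq_one_of_mem (h : SimpleFactor N T) {z : G} (hz : z ∈ T)
    (hzc : ∀ y ∈ T, z * y = y * z) : z = 1 := by
  by_contra hz1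
  have hM := h.factor.eq_of_le (T ⊓ Subgroup.centralizer (T : Set G)) inf_le_left
    (fun hb => hz1 (Subgroup.mem_bot.1
      (hb ▸ ⟨hz, Subgroup.mem_centralizer_iff.2 fun y hy => (hzc y hy).symm⟩)))
    fun a ha x hx => ⟨h.factor.conj_mem a ha x hx.1, Subgroup.mem_centralizer_iff.2 fun y hy => by
      have h1 := h.factor.conj_mem a⁻¹ (inv_mem ha) y hy
      have h2 := Subgroup.mem_centralizer_iff.1 hx.2 _ h1
      simp only [inv_inv] at h2
      calc y * (a * x * a⁻¹) = a * ((a⁻¹ * y * a) * x) * a⁻¹ := by group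
        _ = a * (x * (a⁻¹ * y * a)) * a⁻¹ := by rw [h2]
        _ = a * x * a⁻¹ * y := by group⟩
  refine h.nonabelian fun x hx y hy => ?_
  rw [← hM] at hx
  exact (Subgroup.mem_centralizer_iff.1 hx.2 y hy).symm

/-- The factor is no `p`-group. -/
theorem exists_prime_ne [Finite G] (h : SimpleFactor N T) (p : ℕ) [Fact p.Prime] :
    ∃ q : ℕ, q.Prime ∧ q ≠ p ∧ ∃ y ∈ T, orderOf y = q := by
  by_contra hcon
  have hp : IsPGroup p T := by
    rw [IsPGroup.iff_card]
    refine ⟨(Nat.card T).primeFactorsList.length, Nat.eq_prime_pow_of_unique_prime_dvd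
      Nat.card_pos.ne' fun {d} hd hdvd => ?_⟩
    by_contra hne
    haveI := Fact.mk hd
    obtain ⟨y, hy⟩ := exists_prime_orderOf_dvd_card' (G := T) d hdvd
    exact hcon ⟨d, hd, hne, y.1, y.2, by rw [Subgroup.orderOf_coe, hy]⟩
  have : Nontrivial T := (Subgroup.nontrivial_iff_ne_bot T).2 h.factor.ne_bot
  have := hp.center_nontrivial
  obtain ⟨⟨z, hz⟩, hz1⟩ := exists_ne (1 : Subgroup.center T)
  exact hz1 (Subtype.ext (Subtype.ext (h.eq_one_of_mem z.2 fun y hy =>
    (congrArg Subtype.val (Subgroup.mem_center_iff.1 hz ⟨y, hy⟩)).symm)))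

/-- A factor equal to the whole minimal normal subgroup makes it simple. -/
theorem isSimpleGroup (h : SimpleFactor N N) : IsSimpleGroup N := by
  have : Nontrivial N := (Subgroup.nontrivial_iff_ne_bot N).2 h.factor.ne_bot
  constructor
  intro K hK
  by_cases hb : K = ⊥
  · exact Or.inl hb
  refine Or.inr (Subgroup.map_injective N.subtype_injective ?_)
  rw [← MonoidHom.range_eq_map, Subgroup.range_subtype]
  refine h.factor.eq_of_le _ (Subgroup.map_subtype_le K) ?_ ?_
  · simpa [Subgroup.map_eq_bot_iff_of_injective _ N.subtype_injective] using hb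
  · rintro a ha _ ⟨x, hx, rfl⟩
    exact ⟨⟨a, ha⟩ * x * ⟨a, ha⟩⁻¹, hK.conj_mem x hx _, rfl⟩

end SimpleFactor

end Cfsg.Agent.H80
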