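import Cfsg.Agent.H80.Derangements
import Cfsg.Agent.H80.MinimalNormal

/-!
Normal subgroups of primitive and quasiprimitive permutation groups.
-/

open MulAction

namespace Cfsg.Agent.H80

variable {G Ω : Type*} [Group G] [MulAction G Ω]

/-- A non-trivial normal subgroup of a faithful primitive group is transitive. -/
theorem isPretransitive_of_normal [FaithfulSMul G Ω] (hprim : IsPreprimitive G Ω)
    {N : Subgroup G} (hN : N.Normal) (hne : N ≠ ⊥) : IsPretransitive N Ω := by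
  refine IsQuasiPreprimitive.isPretransitive_of_normal (G := G) fun h => hne ?_
  refine (Subgroup.eq_bot_iff_forall N).2 fun x hx => eq_of_smul_eq_smul (α := Ω) fun ω => ?_
  rw [one_smul]
  exact (h.symm ▸ Set.mem_univ ω : ω ∈ fixedPoints N Ω) ⟨x, hx⟩

/-- An element commuting with a transitive subgroup and fixing a point is trivial. -/
theorem eq_one_of_commute_transitive [FaithfulSMul G Ω] {C : Subgroup G} [IsPretransitive C Ω]
    {x : G} (hx : ∀ c ∈ C, x * c = c * x) {a : Ω} (ha : x • a = a) : x = 1 := by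
  refine eq_of_smul_eq_smul (α := Ω) fun ω => ?_
  obtain ⟨c, rfl⟩ := exists_smul_eq C a ω
  rw [one_smul, Subgroup.smul_def, ← mul_smul, hx c c.2, mul_smul, ha]

/-- An abelian transitive subgroup of a faithful action has trivial point stabilisers. -/
theorem stabilizer_eq_bot_of_comm [FaithfulSMul G Ω] {N : Subgroup G} [IsPretransitive N Ω]
    (hc : ∀ x ∈ N, ∀ y ∈ N, x * y = y * x) (a : Ω) : stabilizer N a = ⊥ :=
  (Subgroup.eq_bot_iff_forall _).2 fun x hx =>
    Subtype.ext (eq_one_of_commute_transitive (C := N) (hc x.1 x.2) (mem_stabilizer_iff.1 hx))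

/-- A finite group is not covered by the conjugates of a proper subgroup. -/
theorem exists_forall_conj_notMem {T : Type*} [Group T] [Finite T] (M : Subgroup T) (hM : M ≠ ⊤) :
    ∃ t : T, ∀ c : T, c⁻¹ * t * c ∉ M := by
  by_contra hcon
  push Not at hcon
  have hD : derangementSubgroup T (T ⧸ M) = ⊥ := by
    rw [derangementSubgroup, Subgroup.closure_eq_bot_iff]
    intro g hg
    obtain ⟨c, hc⟩ := hcon g
    refine absurd ?_ (hg (c : T ⧸ M))
    rw [MulAction.Quotient.smul_coe, smul_eq_mul, QuotientGroup.eq]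
    simpa [mul_assoc] using M.inv_mem hc
  have := isPretransitive_derangementSubgroup (G := T) (Ω := T ⧸ M)
  rw [hD] at this
  refine hM ((Subgroup.eq_top_iff' M).2 fun x => ?_)
  obtain ⟨⟨d, hd⟩, h⟩ := this.exists_smul_eq ((1 : T) : T ⧸ M) (x : T ⧸ M)
  rw [Subgroup.mem_bot] at hd
  subst hd
  rw [Subgroup.smul_def, one_smul] at h
  simpa using QuotientGroup.eq.1 h

namespace SimpleFactor

variable {N T : Subgroup G}

/-- A factor of a faithful transitive minimal normal subgroup meets a point stabiliser trivially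
as soon as the stabiliser maps onto it. -/
theorem exists_derangement [Finite G] [FaithfulSMul G Ω] [IsPretransitive N Ω]
    (h : SimpleFactor N T) (a : Ω) :
    (∀ y ∈ T, y ≠ 1 → ∀ ω : Ω, y • ω ≠ ω) ∨
    ∃ t ∈ T, ∀ b ∈ N ⊓ Subgroup.centralizer (T : Set G), ∀ ω : Ω, (t * b) • ω ≠ ω := by
  set B := N ⊓ Subgroup.centralizer (T : Set G)
  let M : Subgroup T :=
    { carrier := {t | ∃ b ∈ B, (t.1 * b) • a = a}
      one_mem' := ⟨1, one_mem B, by simp⟩
      mul_mem' := by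
        rintro ⟨t, ht⟩ ⟨t', ht'⟩ ⟨b, hb, h1⟩ ⟨b', hb', h2⟩
        refine ⟨b * b', mul_mem hb hb', ?_⟩
        have := Subgroup.mem_centralizer_iff.1 hb.2 t' ht'
        show (t * t' * (b * b')) • a = a
        rw [show t * t' * (b * b') = t * (t' * b) * b' by group, this,
          show t * (b * t') * b' = (t * b) * (t' * b') by group, mul_smul, h2, h1]
      inv_mem' := by
        rintro ⟨t, ht⟩ ⟨b, hb, h1⟩
        refine ⟨b⁻¹, inv_mem hb, ?_⟩
        have := Subgroup.mem_centralizer_iff.1 hb.2 t ht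
        show (t⁻¹ * b⁻¹) • a = a
        rw [← mul_inv_rev, ← this, inv_smul_eq_iff, h1] }
  by_cases hM : M = ⊤
  · left
    -- `T` meets the stabiliser in a normal subgroup of `N`
    let K : Subgroup G := T ⊓ stabilizer G a
    have hK : ∀ x ∈ N, ∀ y ∈ K, x * y * x⁻¹ ∈ K := by
      intro x hx y hy
      refine ⟨h.factor.conj_mem x hx y hy.1, ?_⟩
      obtain ⟨t, ht, b, hb, rfl⟩ := h.decomp x hx
      obtain ⟨b', hb', hf⟩ : (⟨t, ht⟩ : T) ∈ M := hM ▸ Subgroup.mem_top _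
      have e : ∀ c ∈ B, c * y * c⁻¹ = y := fun c hc => by
        rw [← Subgroup.mem_centralizer_iff.1 hc.2 y hy.1, mul_inv_cancel_right]
      have e1 : t * b * y * (t * b)⁻¹ = (t * b') * y * (t * b')⁻¹ := by
        calc t * b * y * (t * b)⁻¹ = t * (b * y * b⁻¹) * t⁻¹ := by group
          _ = t * (b' * y * b'⁻¹) * t⁻¹ := by rw [e b hb, e b' hb']
          _ = (t * b') * y * (t * b')⁻¹ := by group
      have hf' : t * b' ∈ stabilizer G a := hf
      rw [e1]
      exact (stabilizer G a).mul_mem ((stabilizer G a).mul_mem hf' hy.2) ((stabilizer G a).inv_mem hf')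
    have hKbot : K = ⊥ := by
      by_contra hne
      have heq := h.factor.eq_of_le K inf_le_left hne hK
      refine h.factor.ne_bot ((Subgroup.eq_bot_iff_forall T).2 fun y hy =>
        eq_of_smul_eq_smul (α := Ω) fun ω => ?_)
      obtain ⟨x, rfl⟩ := exists_smul_eq N a ω
      have hy' := h.factor.conj_mem x.1⁻¹ (N.inv_mem x.2) y hy
      rw [← heq, inv_inv] at hy'
      rw [one_smul, Subgroup.smul_def, ← mul_smul,
        show y * x.1 = x.1 * (x.1⁻¹ * y * x.1) by group, mul_smul, mem_stabilizer_iff.1 hy'.2]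
    intro y hy hy1 ω hω
    obtain ⟨x, rfl⟩ := exists_smul_eq N a ω
    refine hy1 ?_
    have hy' := h.factor.conj_mem x.1⁻¹ (N.inv_mem x.2) y hy
    rw [inv_inv] at hy'
    have : x.1⁻¹ * y * x.1 ∈ K := ⟨hy', by
      rw [Subgroup.smul_def, ← mul_smul] at hω
      change (x.1⁻¹ * y * x.1) • a = a
      rw [mul_assoc, mul_smul, hω, inv_smul_smul]⟩
    rw [hKbot, Subgroup.mem_bot] at this
    calc y = x.1 * (x.1⁻¹ * y * x.1) * x.1⁻¹ := by group
      _ = 1 := by rw [this]; group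
  · right
    obtain ⟨t, ht⟩ := exists_forall_conj_notMem M hM
    refine ⟨t.1, t.2, fun b hb ω hω => ?_⟩
    obtain ⟨x, rfl⟩ := exists_smul_eq N a ω
    obtain ⟨t₀, ht₀, b₀, hb₀, hx⟩ := h.decomp x.1 x.2
    refine ht ⟨t₀, ht₀⟩ ⟨b₀⁻¹ * b * b₀, mul_mem (mul_mem (inv_mem hb₀) hb) hb₀, ?_⟩
    have c1 : ∀ u ∈ T, b₀⁻¹ * u = u * b₀⁻¹ := fun u hu =>
      (Subgroup.mem_centralizer_iff.1 (inv_mem hb₀).2 u hu).symm
    have c2 : b * t₀ = t₀ * b := (Subgroup.mem_centralizer_iff.1 hb.2 t₀ ht₀).symm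
    show (t₀⁻¹ * t.1 * t₀ * (b₀⁻¹ * b * b₀)) • a = a
    have e : t₀⁻¹ * t.1 * t₀ * (b₀⁻¹ * b * b₀) = x.1⁻¹ * (t.1 * b) * x.1 := by
      have h3 := c1 (t₀⁻¹ * t.1 * t₀) (mul_mem (mul_mem (inv_mem ht₀) t.2) ht₀)
      calc t₀⁻¹ * t.1 * t₀ * (b₀⁻¹ * b * b₀) = (t₀⁻¹ * t.1 * t₀ * b₀⁻¹) * b * b₀ := by group
        _ = (b₀⁻¹ * (t₀⁻¹ * t.1 * t₀)) * b * b₀ := by rw [h3]
        _ = b₀⁻¹ * t₀⁻¹ * t.1 * (t₀ * b) * b₀ := by group
        _ = b₀⁻¹ * t₀⁻¹ * t.1 * (b * t₀) * b₀ := by rw [c2]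
        _ = x.1⁻¹ * (t.1 * b) * x.1 := by rw [hx]; group
    rw [Subgroup.smul_def] at hω
    rw [e, mul_smul, mul_smul, hω, inv_smul_smul]

end SimpleFactor

end Cfsg.Agent.H80
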