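import Cfsg.Agent.H80.MinimalNormal

/-!
Conjugates of a factor of a minimal normal subgroup.
-/

namespace Cfsg.Agent.H80.SimpleFactor

variable {G : Type*} [Group G] {N T : Subgroup G}

/-- A conjugate of a factor is the factor or centralises it. -/
theorem conj_mem_or [Finite G] (h : SimpleFactor N T) (g : G) :
    (∀ t ∈ T, g * t * g⁻¹ ∈ T) ∨
      (∀ t ∈ T, g * t * g⁻¹ ∈ N ⊓ Subgroup.centralizer (T : Set G)) := by
  have hN := h.minimal.normal
  set T' := T.map (MulAut.conj g).toMonoidHom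
  have hT'N : T' ≤ N := by
    rintro _ ⟨y, hy, rfl⟩; exact hN.conj_mem y (h.factor.le hy) g
  have hT'conj : ∀ a ∈ N, ∀ x ∈ T', a * x * a⁻¹ ∈ T' := by
    rintro a ha _ ⟨y, hy, rfl⟩
    refine ⟨(g⁻¹ * a * g) * y * (g⁻¹ * a * g)⁻¹, h.factor.conj_mem _ ?_ y hy, ?_⟩
    · simpa using hN.conj_mem a ha g⁻¹
    · simp [MulAut.conj_apply, mul_assoc]
  by_cases hI : T ⊓ T' = ⊥
  · refine Or.inr fun t ht => ⟨hT'N ⟨t, ht, rfl⟩, Subgroup.mem_centralizer_iff.2 fun u hu => ?_⟩
    have hmem : g * t * g⁻¹ ∈ T' := ⟨t, ht, rfl⟩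
    set v := g * t * g⁻¹
    have h1 : u * v * u⁻¹ * v⁻¹ ∈ T ⊓ T' := by
      constructor
      · rw [show u * v * u⁻¹ * v⁻¹ = u * (v * u⁻¹ * v⁻¹) by group]
        exact mul_mem hu (h.factor.conj_mem v (hT'N hmem) _ (inv_mem hu))
      · exact T'.mul_mem (hT'conj u (h.factor.le hu) v hmem) (T'.inv_mem hmem)
    rw [hI, Subgroup.mem_bot] at h1
    exact mul_inv_eq_iff_eq_mul.1 (mul_inv_eq_one.1 h1)
  · have heq := h.factor.eq_of_le _ inf_le_left hI fun a ha x hx =>
      ⟨h.factor.conj_mem a ha x hx.1, hT'conj a ha x hx.2⟩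
    have hle : T ≤ T' := inf_eq_left.1 heq
    have hTT : T = T' := SetLike.coe_injective (Set.eq_of_subset_of_ncard_le hle (by
      rw [Subgroup.coe_map]; exact Set.ncard_image_le))
    exact Or.inl fun t ht => hTT ▸ (⟨t, ht, rfl⟩ : g * t * g⁻¹ ∈ T')

/-- If the factor is proper, some conjugate of it centralises it. -/
theorem exists_conj_mem_centralizer [Finite G] (h : SimpleFactor N T) (hne : T ≠ N) :
    ∃ g : G, ∀ t ∈ T, g * t * g⁻¹ ∈ N ⊓ Subgroup.centralizer (T : Set G) := by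
  by_contra hno
  refine hne (h.minimal.eq_of_le T h.factor.le h.factor.ne_bot fun g _ t ht => ?_)
  exact (h.conj_mem_or g).resolve_right (fun h' => hno ⟨g, h'⟩) t ht

/-- The two parts of a product `t * b` are unique. -/
theorem eq_and_eq_of_mul_eq (h : SimpleFactor N T) {t t' b b' : G} (ht : t ∈ T) (ht' : t' ∈ T)
    (hb : b ∈ Subgroup.centralizer (T : Set G)) (hb' : b' ∈ Subgroup.centralizer (T : Set G))
    (he : t * b = t' * b') : t = t' ∧ b = b' := by
  have h1 : t'⁻¹ * t = b' * b⁻¹ := by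
    rw [inv_mul_eq_iff_eq_mul, ← mul_assoc, ← he, mul_inv_cancel_right]
  have h2 : t'⁻¹ * t = 1 := h.eq_one_of_mem (mul_mem (inv_mem ht') ht) fun z hz => by
    rw [h1]
    exact (Subgroup.mem_centralizer_iff.1 (mul_mem hb' (inv_mem hb)) z hz).symm
  rw [h2] at h1
  exact ⟨(inv_mul_eq_one.1 h2).symm, (mul_inv_eq_one.1 h1.symm).symm⟩

/-- The order of `t * b` is divisible by the order of `b`. -/
theorem orderOf_dvd (h : SimpleFactor N T) {t b : G} (ht : t ∈ T)
    (hb : b ∈ Subgroup.centralizer (T : Set G)) : orderOf b ∣ orderOf (t * b) := by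
  refine orderOf_dvd_of_pow_eq_one ?_
  have hcm : Commute t b := Subgroup.mem_centralizer_iff.1 hb t ht
  refine (h.eq_and_eq_of_mul_eq (pow_mem ht (orderOf (t * b))) (one_mem T)
    (pow_mem hb (orderOf (t * b))) (one_mem _) ?_).2
  rw [← hcm.mul_pow, pow_orderOf_eq_one, one_mul]

end Cfsg.Agent.H80.SimpleFactor
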