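import Mathlib

/-! If every derangement of a finite transitive group is an involution, then every nonidentity
element fixes at most one point (double count of swapped and fixed pairs). -/

namespace Cfsg.Agent.H80

open Finset

theorem swap_pairs_le {G Ω : Type*} [Group G] [Fintype G] [DecidableEq Ω] [MulAction G Ω]
    (a b : Ω) :
    (univ.filter fun g : G => g • a = b ∧ g • b = a).card ≤
      (univ.filter fun g : G => g • a = a ∧ g • b = b).card := by
  classical
  by_cases h : ∃ g₀ : G, g₀ • a = b ∧ g₀ • b = a
  · obtain ⟨g₀, h1, h2⟩ := h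
    refine Finset.card_le_card_of_injOn (fun g => g₀⁻¹ * g) ?_ ?_
    · intro g hg
      simp only [coe_filter, mem_univ, true_and, Set.mem_setOf_eq] at hg ⊢
      exact ⟨by rw [mul_smul, hg.1, inv_smul_eq_iff, h1], by rw [mul_smul, hg.2, inv_smul_eq_iff, h2]⟩
    · intro x _ y _ hxy
      exact mul_left_cancel hxy
  · rw [Finset.filter_false_of_mem (fun g _ hg => h ⟨g, hg⟩), Finset.card_empty]
    exact Nat.zero_le _

theorem fix_le_one {G Ω : Type*} [Group G] [Fintype G] [Fintype Ω] [DecidableEq Ω]
    [MulAction G Ω] [FaithfulSMul G Ω] [MulAction.IsPretransitive G Ω] [Nonempty Ω]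
    (F : G → Finset Ω) (hF : ∀ g a, a ∈ F g ↔ g • a = a)
    (hinv : ∀ g : G, (∀ ω : Ω, g • ω ≠ ω) → orderOf g = 2) :
    ∀ g : G, (F g).card ≤ 1 ∨ g = 1 := by
  classical
  let Sw : G → Finset (Ω × Ω) := fun g =>
    (univ.offDiag).filter fun p => g • p.1 = p.2 ∧ g • p.2 = p.1
  let Fx : G → Finset (Ω × Ω) := fun g =>
    (univ.offDiag).filter fun p => g • p.1 = p.1 ∧ g • p.2 = p.2
  have hle : ∑ g : G, (Sw g).card ≤ ∑ g : G, (Fx g).card := by
    simp only [Sw, Fx, Finset.card_filter]
    rw [Finset.sum_comm, Finset.sum_comm (t := univ.offDiag)]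
    refine Finset.sum_le_sum fun p _ => ?_
    simp only [← Finset.card_filter]
    exact swap_pairs_le p.1 p.2
  have hFx : ∀ g : G, (Fx g).card = (F g).card * (F g).card - (F g).card := by
    intro g
    rw [← Finset.offDiag_card]
    congr 1
    ext p
    simp only [Fx, mem_filter, mem_offDiag, mem_univ, true_and, hF]
    tauto
  have hsum : ∑ g : G, (F g).card = Fintype.card G := by
    have hb := MulAction.sum_card_fixedBy_eq_card_orbits_mul_card_group G Ω
    haveI : Subsingleton (MulAction.orbitRel.Quotient G Ω) :=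
      (MulAction.pretransitive_iff_subsingleton_quotient G Ω).1 inferInstance
    haveI : Nonempty (Quotient (MulAction.orbitRel G Ω)) :=
      ⟨Quotient.mk'' (Classical.arbitrary Ω)⟩
    have hq : Fintype.card (Quotient (MulAction.orbitRel G Ω)) = 1 := by
      refine le_antisymm (Fintype.card_le_one_iff_subsingleton.2 ?_) Fintype.card_pos
      assumption
    rw [hq, one_mul] at hb
    rw [← hb]
    refine Finset.sum_congr rfl fun g _ => ?_
    rw [← Fintype.card_coe]
    exact Fintype.card_congr (Equiv.subtypeEquivRight fun a => by simp [hF])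
  set n : ℤ := (Fintype.card Ω : ℤ) with hn
  let e : G → ℤ := fun g =>
    (((F g).card : ℤ) - 1) * (((F g).card : ℤ) - n) - ((Sw g).card : ℤ)
  have he : ∀ g : G, e g ≤ 0 := by
    intro g
    rcases Nat.eq_zero_or_pos (F g).card with h0 | h0
    · have hD : ∀ ω : Ω, g • ω ≠ ω := by
        intro ω hω
        have : ω ∈ F g := (hF g ω).2 hω
        rw [Finset.card_eq_zero.1 h0] at this
        simp at this
      have hg2 : g * g = 1 := by
        have := pow_orderOf_eq_one g
        rwa [hinv g hD, pow_two] at this
      have hS : (Sw g).card = Fintype.card Ω := by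
        refine Finset.card_bij (fun p _ => p.1) (fun p _ => mem_univ _) ?_ ?_
        · intro p hp q hq h
          simp only [Sw, mem_filter] at hp hq
          exact Prod.ext h (by rw [← hp.2.1, ← hq.2.1, h])
        · intro a _
          refine ⟨(a, g • a), ?_, rfl⟩
          simp only [Sw, mem_filter, mem_offDiag, mem_univ, true_and]
          exact ⟨fun h => hD a h.symm, by rw [smul_smul, hg2, one_smul]⟩
      simp [e, h0, hS, hn]
    · have h1 : (0:ℤ) ≤ ((F g).card : ℤ) - 1 := by omega
      have h2 : ((F g).card : ℤ) - n ≤ 0 := by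
        have := Finset.card_le_univ (F g)
        omega
      have := mul_nonpos_of_nonneg_of_nonpos h1 h2
      simp only [e]
      omega
  have hes : 0 ≤ ∑ g : G, e g := by
    have hFxz : ∀ g : G, ((Fx g).card : ℤ) = ((F g).card : ℤ) * (F g).card - (F g).card := by
      intro g
      rw [hFx g, Nat.cast_sub (Nat.le_mul_self _)]
      push_cast
      rfl
    have : ∀ g : G, e g = (((Fx g).card : ℤ) - (Sw g).card) - n * (((F g).card : ℤ) - 1) := by
      intro g
      simp only [e, hFxz]
      ring
    simp only [this, Finset.sum_sub_distrib, ← Finset.mul_sum]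
    have hle' : (∑ g : G, ((Sw g).card : ℤ)) ≤ ∑ g : G, ((Fx g).card : ℤ) := by exact_mod_cast hle
    have hsum' : (∑ g : G, ((F g).card : ℤ)) = (Fintype.card G : ℤ) := by exact_mod_cast hsum
    rw [hsum']
    simp only [Finset.sum_const, Finset.card_univ, nsmul_eq_mul, mul_one, sub_self, mul_zero]
    linarith
  intro g
  have h0 : e g = 0 := by
    refine le_antisymm (he g) ?_
    by_contra hc
    have : ∑ x : G, e x < 0 :=
      Finset.sum_neg' (fun x _ => he x) ⟨g, mem_univ g, not_le.1 hc⟩
    omega
  by_cases h1 : (F g).card ≤ 1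
  · exact Or.inl h1
  · right
    have h2 : ((F g).card : ℤ) - n = 0 := by
      have hp : (0:ℤ) < ((F g).card : ℤ) - 1 := by omega
      have hub : ((F g).card : ℤ) - n ≤ 0 := by
        have := Finset.card_le_univ (F g)
        omega
      have hmul : 0 ≤ (((F g).card : ℤ) - 1) * (((F g).card : ℤ) - n) := by
        simp only [e] at h0
        omega
      exact le_antisymm hub (nonneg_of_mul_nonneg_right hmul hp)
    have h3 : F g = univ := Finset.eq_univ_of_card _ (by omega)
    refine FaithfulSMul.eq_of_smul_eq_smul (α := Ω) fun ω => ?_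
    rw [one_smul]
    exact (hF g ω).1 (h3 ▸ mem_univ ω)

end Cfsg.Agent.H80
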