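import Mathlib

/-!
The subgroup generated by the derangements of a finite transitive permutation group.
-/

open MulAction
open scoped BigOperators

namespace Cfsg.Agent.H80

/-- The subgroup generated by the elements fixing no point. -/
abbrev derangementSubgroup (G Ω : Type*) [Group G] [MulAction G Ω] : Subgroup G :=
  Subgroup.closure {g : G | ∀ ω : Ω, g • ω ≠ ω}

variable {G Ω : Type*} [Group G] [MulAction G Ω]

/-- An element outside the derangement subgroup fixes a point. -/
theorem exists_fixed_of_not_mem_derangementSubgroup {g : G}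
    (hg : g ∉ derangementSubgroup G Ω) : ∃ ω : Ω, g • ω = ω := by
  by_contra h
  exact hg (Subgroup.subset_closure fun ω hω => h ⟨ω, hω⟩)

/-- Over a coset of a transitive subgroup the numbers of fixed points add up to its order. -/
theorem sum_card_fixedBy_coset [Finite Ω] (D : Subgroup G) [Fintype D]
    [IsPretransitive D Ω] [Nonempty Ω] (x : G) :
    ∑ d : D, Nat.card (fixedBy Ω (x * (d : G))) = Nat.card D := by
  classical
  have := Fintype.ofFinite Ω
  have key : ∀ ω : Ω, Nat.card {d : D // (x * (d : G)) • ω = ω} = Nat.card (stabilizer D ω) := by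
    intro ω
    obtain ⟨d₀, hd₀⟩ := exists_smul_eq D ω (x⁻¹ • ω)
    refine Nat.card_congr ⟨fun d => ⟨d₀⁻¹ * d.1, ?_⟩, fun s => ⟨d₀ * s.1, ?_⟩,
      fun d => by simp, fun s => by simp⟩
    · rw [mem_stabilizer_iff, mul_smul, inv_smul_eq_iff, hd₀]
      have h := d.2
      rw [mul_smul, ← eq_inv_smul_iff] at h
      exact h
    · rw [mul_smul, ← eq_inv_smul_iff]
      change (d₀ * s.1) • ω = _
      rw [mul_smul, mem_stabilizer_iff.1 s.2, hd₀]
  let e : (Σ d : D, fixedBy Ω (x * (d : G))) ≃ Σ ω : Ω, {d : D // (x * (d : G)) • ω = ω} :=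
    ⟨fun p => ⟨p.2.1, p.1, p.2.2⟩, fun p => ⟨p.2.1, p.1, p.2.2⟩, fun _ => rfl, fun _ => rfl⟩
  have h1 := Nat.card_congr e
  rw [Nat.card_sigma, Nat.card_sigma] at h1
  simp_rw [key] at h1
  rw [h1]
  obtain ⟨a⟩ := ‹Nonempty Ω›
  have h2 : ∀ ω : Ω, Nat.card (stabilizer D ω) = Nat.card (stabilizer D a) := by
    intro ω
    obtain ⟨g, hg⟩ := exists_smul_eq D a ω
    exact (Nat.card_congr (stabilizerEquivStabilizer hg.symm).toEquiv).symm
  rw [Finset.sum_congr rfl (fun ω _ => h2 ω), Finset.sum_const, smul_eq_mul, Finset.card_univ,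
    ← Subgroup.card_mul_index (stabilizer D a), index_stabilizer_of_transitive,
    Nat.card_eq_fintype_card (α := Ω), mul_comm]

/-- Burnside's counting lemma in `Nat.card` form. -/
theorem sum_card_fixedBy_eq [Fintype G] [Finite Ω] :
    ∑ g : G, Nat.card (fixedBy Ω g) = Nat.card (orbitRel.Quotient G Ω) * Nat.card G := by
  classical
  have := Fintype.ofFinite Ω
  simp only [Nat.card_eq_fintype_card]
  exact sum_card_fixedBy_eq_card_orbits_mul_card_group G Ω

/-- The derangement subgroup of a finite transitive group is transitive. -/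
theorem isPretransitive_derangementSubgroup [Finite G] [Finite Ω] [IsPretransitive G Ω] :
    IsPretransitive (derangementSubgroup G Ω) Ω := by
  classical
  rcases isEmpty_or_nonempty Ω with h | h
  · exact ⟨fun x => h.elim x⟩
  have := Fintype.ofFinite G
  set D := derangementSubgroup G Ω
  have htot : ∑ g : G, Nat.card (fixedBy Ω g) = Nat.card G := by
    rw [sum_card_fixedBy_eq]
    have : Subsingleton (orbitRel.Quotient G Ω) :=
      pretransitive_iff_subsingleton_quotient G Ω |>.1 inferInstance
    rw [Nat.card_of_subsingleton (Quotient.mk _ (Classical.arbitrary Ω)), one_mul]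
  have hge : ∀ g ∈ Finset.univ.filter (fun g : G => g ∉ D), 1 ≤ Nat.card (fixedBy Ω g) := by
    intro g hg
    obtain ⟨ω, hω⟩ := exists_fixed_of_not_mem_derangementSubgroup (Finset.mem_filter.1 hg).2
    have : Nonempty (fixedBy Ω g) := ⟨⟨ω, hω⟩⟩
    exact Nat.card_pos
  have hD : ∑ g ∈ Finset.univ.filter (fun g : G => g ∈ D), Nat.card (fixedBy Ω g) =
      Nat.card (orbitRel.Quotient D Ω) * Nat.card D := by
    rw [← sum_card_fixedBy_eq]
    exact Finset.sum_subtype _ (by simp) (fun g : G => Nat.card (fixedBy Ω g))
  have hsplit := Finset.sum_filter_add_sum_filter_not Finset.univ (fun g : G => g ∈ D)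
    (fun g => Nat.card (fixedBy Ω g))
  have hc := Finset.card_filter_add_card_filter_not (s := (Finset.univ : Finset G))
    (fun g : G => g ∈ D)
  have hle := Finset.card_nsmul_le_sum _ _ _ hge
  rw [smul_eq_mul, mul_one] at hle
  have hcD : (Finset.univ.filter (fun g : G => g ∈ D)).card = Nat.card D := by
    rw [Nat.card_eq_fintype_card, Fintype.card_subtype]
  rw [Finset.card_univ, ← Nat.card_eq_fintype_card] at hc
  have h1 : Nat.card (orbitRel.Quotient D Ω) * Nat.card D ≤ Nat.card D := by omega
  have hpos : 0 < Nat.card D := Nat.card_pos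
  have h2 : Nat.card (orbitRel.Quotient D Ω) ≤ 1 :=
    Nat.le_of_mul_le_mul_right (by simpa using h1) hpos
  rw [pretransitive_iff_subsingleton_quotient]
  exact Finite.card_le_one_iff_subsingleton.1 h2

/-- An equivariant image of the action: every element outside the derangement subgroup fixes
exactly one point, also in each transitive image of the action. -/
theorem card_fixedBy_image_eq_one [Finite G] [Finite Ω] [IsPretransitive G Ω] [Nonempty Ω]
    {Ω' : Type*} [MulAction G Ω'] [Finite Ω'] (f : Ω → Ω') (hf : ∀ (g : G) ω, f (g • ω) = g • f ω)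
    (hsurj : Function.Surjective f) {x : G} (hx : x ∉ derangementSubgroup G Ω) :
    Nat.card (fixedBy Ω' x) = 1 := by
  classical
  set D := derangementSubgroup G Ω
  have hD := isPretransitive_derangementSubgroup (G := G) (Ω := Ω)
  have : IsPretransitive D Ω' := ⟨fun a b => by
    obtain ⟨a, rfl⟩ := hsurj a
    obtain ⟨b, rfl⟩ := hsurj b
    obtain ⟨d, hd⟩ := hD.exists_smul_eq a b
    exact ⟨d, by rw [← hd]; exact (hf d.1 a).symm⟩⟩
  have : Nonempty Ω' := ⟨f (Classical.arbitrary Ω)⟩
  have := Fintype.ofFinite D
  have hge : ∀ d ∈ (Finset.univ : Finset D), 1 ≤ Nat.card (fixedBy Ω' (x * (d : G))) := by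
    intro d _
    obtain ⟨ω, hω⟩ := exists_fixed_of_not_mem_derangementSubgroup (Ω := Ω) (g := x * d)
      (fun h => hx (by simpa using D.mul_mem h (D.inv_mem d.2)))
    have : Nonempty (fixedBy Ω' (x * (d : G))) :=
      ⟨⟨f ω, show _ • f ω = f ω by rw [← hf, hω]⟩⟩
    exact Nat.card_pos
  have heq : ∑ d : D, Nat.card (fixedBy Ω' (x * (d : G))) = ∑ _d : D, 1 := by
    rw [sum_card_fixedBy_coset]
    simp [Nat.card_eq_fintype_card]
  have := (Finset.sum_eq_sum_iff_of_le hge).1 heq.symm 1 (Finset.mem_univ _)
  simpa using this.symm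

/-- Every element outside the derangement subgroup fixes exactly one point. -/
theorem card_fixedBy_eq_one [Finite G] [Finite Ω] [IsPretransitive G Ω] [Nonempty Ω]
    {x : G} (hx : x ∉ derangementSubgroup G Ω) : Nat.card (fixedBy Ω x) = 1 :=
  card_fixedBy_image_eq_one (Ω' := Ω) id (fun _ _ => rfl) Function.surjective_id hx

/-- If all point stabilisers lie in `L` then the index of `L` divides the number of points. -/
theorem index_dvd_card_of_stabilizer_le {H X : Type*} [Group H] [MulAction H X] [Finite X]
    (L : Subgroup H) (hL : ∀ x : X, stabilizer H x ≤ L) : L.index ∣ Nat.card X := by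
  have := Fintype.ofFinite (orbitRel.Quotient H X)
  rw [Nat.card_congr (selfEquivSigmaOrbits' H X), Nat.card_sigma]
  refine Finset.dvd_sum fun ω _ => ?_
  induction ω using Quotient.inductionOn' with
  | h a =>
    rw [orbitRel.Quotient.orbit_mk, Nat.card_coe_set_eq, ← index_stabilizer]
    exact Subgroup.index_dvd_of_le (hL a)

/-- The derangement subgroup meets a point stabiliser in a subgroup of the same index. -/
theorem index_derangement_subgroupOf_stabilizer [Finite G] [Finite Ω] [IsPretransitive G Ω]
    (a : Ω) : ((derangementSubgroup G Ω).subgroupOf (stabilizer G a)).index =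
      (derangementSubgroup G Ω).index := by
  have := isPretransitive_derangementSubgroup (G := G) (Ω := Ω)
  set D := derangementSubgroup G Ω
  have h1 := Subgroup.card_mul_index (stabilizer G a)
  have h2 := Subgroup.card_mul_index (stabilizer D a)
  rw [index_stabilizer_of_transitive] at h1 h2
  have h3 := Subgroup.card_mul_index D
  have h4 := Subgroup.card_mul_index (D.subgroupOf (stabilizer G a))
  have h5 : Nat.card (D.subgroupOf (stabilizer G a)) = Nat.card (stabilizer D a) :=
    Nat.card_congr ⟨fun x => ⟨⟨x.1.1, x.2⟩, x.1.2⟩, fun x => ⟨⟨x.1.1, x.2⟩, x.1.2⟩,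
      fun _ => rfl, fun _ => rfl⟩
  have hpos : 0 < Nat.card (stabilizer D a) * Nat.card Ω :=
    Nat.mul_pos Nat.card_pos (by have : Nonempty Ω := ⟨a⟩; exact Nat.card_pos)
  refine Nat.eq_of_mul_eq_mul_left hpos ?_
  rw [← h5, mul_right_comm, h4, h5, h2, h3, h1]

/-- The index of the derangement subgroup divides the number of non-fixed points of an invariant
set all of whose members have stabiliser inside it. -/
theorem index_derangementSubgroup_dvd_card [Finite G] [Finite Ω] [IsPretransitive G Ω] (a : Ω)
    {Ω' : Type*} [MulAction G Ω'] [Finite Ω'] (X : SubMulAction (stabilizer G a) Ω')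
    (hX : ∀ (g : G) (b : Ω'), b ∈ X → g • a = a → g • b = b → g ∈ derangementSubgroup G Ω) :
    (derangementSubgroup G Ω).index ∣ Nat.card X := by
  rw [← index_derangement_subgroupOf_stabilizer a]
  refine index_dvd_card_of_stabilizer_le _ fun b h hb => ?_
  exact hX h.1 b.1 b.2 h.2 (congrArg Subtype.val (mem_stabilizer_iff.1 hb))

/-- An element with exactly one fixed point fixes no two distinct points. -/
theorem eq_of_card_fixedBy_eq_one {Y : Type*} [MulAction G Y] {x : G}
    (h : Nat.card (fixedBy Y x) = 1) {u v : Y} (hu : x • u = u) (hv : x • v = v) : u = v := by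
  have := (Nat.card_eq_one_iff_unique.1 h).1
  exact congrArg Subtype.val (Subsingleton.elim (⟨u, hu⟩ : fixedBy Y x) ⟨v, hv⟩)

/-- The complement of a fixed point of `H` as a sub-action. -/
def avoiding {H X : Type*} [Group H] [MulAction H X] (c : X) (hc : ∀ h : H, h • c = c) :
    SubMulAction H X where
  carrier := {x | x ≠ c}
  smul_mem' := fun h x hx e => hx (smul_left_cancel h (e.trans (hc h).symm))

/-- The complement of a point has one element fewer. -/
theorem card_avoiding {H X : Type*} [Group H] [MulAction H X] [Finite X] (c : X)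
    (hc : ∀ h : H, h • c = c) : Nat.card (avoiding c hc) = Nat.card X - 1 := by
  classical
  have := Fintype.ofFinite X
  rw [Nat.card_eq_fintype_card, Nat.card_eq_fintype_card]
  rw [Fintype.card_congr (Equiv.subtypeEquivRight (fun x => Iff.rfl) :
    avoiding c hc ≃ {x : X // x ≠ c})]
  simp [Fintype.card_subtype_compl]

end Cfsg.Agent.H80
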