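import Mathlib
import Cfsg.Prelude.Def_CaseTheorems
import Cfsg.Prelude.Def_Solvable
import Cfsg.Agent.S3224

/-! Transitive groups of fixity two: the Sylow 2-subgroup. -/

namespace Cfsg.Agent.H80.FixTwo

open MulAction

variable {G : Type*} [Group G] [Finite G] {Ω : Type*} [Fintype Ω] [MulAction G Ω]

theorem three (hfix : ∀ g : G, g ≠ 1 → Nat.card (MulAction.fixedBy Ω g) ≤ 2) {g : G} {a b c : Ω}
    (ha : g • a = a) (hb : g • b = b) (hc : g • c = c) (hab : a ≠ b) (hac : a ≠ c) (hbc : b ≠ c) :
    g = 1 := by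
  classical
  by_contra hg
  have h := hfix g hg
  have hle : ({a, b, c} : Finset Ω) ⊆ (MulAction.fixedBy Ω g).toFinset := by
    intro x hx
    simp only [Finset.mem_insert, Finset.mem_singleton] at hx
    simp only [Set.mem_toFinset, MulAction.mem_fixedBy]
    rcases hx with rfl | rfl | rfl <;> assumption
  have h1 := Finset.card_le_card hle
  rw [Set.toFinset_card, ← Nat.card_eq_fintype_card] at h1
  have h2 : ({a, b, c} : Finset Ω).card = 3 := by
    simp [Finset.card_insert_of_notMem, hab, hac, hbc]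
  omega

/-- transfer to `S/Q` -/
theorem exists_index_two (S : Sylow 2 G) (α : Ω)
    (hidx : (((S : Subgroup G) ⊓ stabilizer G α).subgroupOf (S : Subgroup G)).index = 2)
    {x : G} (hxS : x ∈ (S : Subgroup G)) (hxQ : x • α ≠ α)
    (hfpf : ∀ s ∈ (S : Subgroup G), ∀ ω : Ω, s • α ≠ α → s • ω ≠ ω) :
    ∃ N : Subgroup G, N.Normal ∧ N.index = 2 ∧ x ∉ N ∧
      ∀ (g : G) (ω : Ω), g • ω = ω → g ∈ N := by
  classical
  haveI : Fact (Nat.Prime 2) := ⟨Nat.prime_two⟩
  set Q := ((S : Subgroup G) ⊓ stabilizer G α).subgroupOf (S : Subgroup G) with hQ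
  have hQm : ∀ s : ↥(S : Subgroup G), s ∈ Q ↔ (s : G) • α = α := by
    intro s
    rw [hQ, Subgroup.mem_subgroupOf, Subgroup.mem_inf, mem_stabilizer_iff]
    exact ⟨fun h => h.2, fun h => ⟨s.2, h⟩⟩
  let φ : ↥(S : Subgroup G) →* ℤˣ := MonoidHom.mk' (fun s => if s ∈ Q then 1 else -1) (by
    intro a b
    have := Subgroup.mul_mem_iff_of_index_two hidx (a := a) (b := b)
    by_cases ha : a ∈ Q <;> by_cases hb : b ∈ Q <;> simp_all)
  let V : G →* ℤˣ := MonoidHom.transfer φ
  have hfixg : ∀ (g : G) (ω : Ω), g • ω = ω → V g = 1 := by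
    intro g ω hω
    show MonoidHom.transfer φ g = 1
    haveI : Fintype (Quotient (orbitRel (Subgroup.zpowers g) (G ⧸ (S : Subgroup G)))) :=
      Fintype.ofFinite _
    rw [MonoidHom.transfer_eq_prod_quotient_orbitRel_zpowers_quot]
    refine Finset.prod_eq_one fun q _ => ?_
    simp only [φ, MonoidHom.mk'_apply]
    rw [if_pos]
    rw [hQm]
    by_contra hne
    refine hfpf _ (SetLike.coe_mem _) (q.out.out⁻¹ • ω) hne ?_
    simp only [← mul_smul, mul_assoc, mul_inv_cancel, mul_one]
    rw [mul_smul]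
    congr 1
    generalize Function.minimalPeriod (g • ·) q.out = k
    induction k with
    | zero => simp
    | succ k ih => rw [pow_succ, mul_smul, hω, ih]
  have hVx : V x = -1 := by
    show MonoidHom.transfer φ x = -1
    haveI : Fintype (Quotient (orbitRel (Subgroup.zpowers x) (G ⧸ (S : Subgroup G)))) :=
      Fintype.ofFinite _
    rw [MonoidHom.transfer_eq_prod_quotient_orbitRel_zpowers_quot]
    set x' : ↥(S : Subgroup G) := ⟨x, hxS⟩ with hx'
    have hxnQ : x' ∉ Q := fun h => hxQ ((hQm x').1 h)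
    have hpar : ∀ k : ℕ, x' ^ k ∈ Q ↔ Even k := by
      intro k
      induction k with
      | zero => simp
      | succ k ih =>
        rw [pow_succ, Subgroup.mul_mem_iff_of_index_two hidx, ih, Nat.even_add_one]
        simp [hxnQ]
    have hterm : ∀ (g : G) (k : ℕ) (h : g⁻¹ * x ^ k * g ∈ (S : Subgroup G)),
        φ ⟨g⁻¹ * x ^ k * g, h⟩ = (-1) ^ k := by
      intro g k h
      simp only [φ, MonoidHom.mk'_apply]
      have hiff : (⟨g⁻¹ * x ^ k * g, h⟩ : ↥(S : Subgroup G)) ∈ Q ↔ Even k := by
        rw [← hpar k, hQm, hQm]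
        simp only [SubmonoidClass.coe_pow, hx']
        constructor
        · intro hk
          by_contra hne
          refine hfpf _ (pow_mem hxS k) (g • α) hne ?_
          rw [mul_smul, mul_smul, inv_smul_eq_iff] at hk
          exact hk
        · intro hk
          by_contra hne
          refine hfpf _ h (g⁻¹ • α) hne ?_
          simp only [← mul_smul, mul_assoc, mul_inv_cancel, mul_one]
          rw [mul_smul, hk]
      by_cases hk : Even k
      · rw [if_pos (hiff.2 hk), hk.neg_one_pow]
      · rw [if_neg (fun hh => hk (hiff.1 hh)), (Nat.not_even_iff_odd.1 hk).neg_one_pow]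
    simp only [hterm]
    rw [Finset.prod_pow_eq_pow_sum, ← Subgroup.index_eq_sum_minimalPeriod]
    have hodd : Odd (S : Subgroup G).index := Nat.not_even_iff_odd.1 (fun h => S.not_dvd_index h.two_dvd)
    exact hodd.neg_one_pow
  have hker : V.ker.index = 2 := by
    rw [Subgroup.index_ker]
    have hr : V.range = ⊤ := by
      rw [eq_top_iff]
      intro u _
      rcases Int.units_eq_one_or u with rfl | rfl
      · exact one_mem _
      · exact ⟨x, hVx⟩
    rw [hr, Subgroup.card_top, Nat.card_eq_fintype_card]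
    rfl
  refine ⟨V.ker, inferInstance, hker, ?_, fun g ω h => hfixg g ω h⟩
  rw [MonoidHom.mem_ker, hVx]
  decide

/-- the index two subgroup is a Frobenius group -/
theorem frobenius (hfaith : ∀ g : G, (∀ ω : Ω, g • ω = ω) → g = 1)
    (htr : MulAction.IsPretransitive G Ω)
    (hfix : ∀ g : G, g ≠ 1 → Nat.card (MulAction.fixedBy Ω g) ≤ 2)
    (S : Sylow 2 G) (α : Ω) {x : G} (hxS : x ∈ (S : Subgroup G))
    {q0 : G} (hq0 : q0 ∈ (S : Subgroup G)) (hq0α : q0 • α = α) (hq01 : q0 ≠ 1)
    (hQ2 : ∀ s ∈ (S : Subgroup G), s • α ≠ α → (x⁻¹ * s) • α = α)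
    (hswap : ∀ q ∈ (S : Subgroup G), q • α = α → q • (x • α) = x • α)
    {N : Subgroup G} (hN : N.Normal) (hxN : x ∉ N) (hfixN : ∀ (g : G) (ω : Ω), g • ω = ω → g ∈ N)
    (hidx : N.index = 2) :
    ∃ H : Subgroup ↥N, Cfsg.IsFrobeniusComplement H := by
  classical
  haveI := htr
  haveI : Fact (Nat.Prime 2) := ⟨Nat.prime_two⟩
  have hsep : ∀ n ∈ N, n • α ≠ x • α := by
    intro n hn h
    have h1 : x⁻¹ * n ∈ N := hfixN _ α (by rw [mul_smul, inv_smul_eq_iff]; exact h)
    have := N.mul_mem hn (N.inv_mem h1)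
    simp [mul_assoc] at this
    exact hxN this
  refine ⟨(stabilizer G α).subgroupOf N, ?_, ?_, ?_⟩
  · intro hb
    have : (⟨q0, hfixN q0 α hq0α⟩ : ↥N) ∈ (stabilizer G α).subgroupOf N := by
      rw [Subgroup.mem_subgroupOf]; exact hq0α
    rw [hb, Subgroup.mem_bot] at this
    exact hq01 (congrArg Subtype.val this)
  · intro ht
    rw [Subgroup.subgroupOf_eq_top] at ht
    apply hq01
    apply hfaith
    intro ω
    obtain ⟨k, rfl⟩ := MulAction.exists_smul_eq G α ω
    have h1 : k⁻¹ * q0 * k ∈ N := by simpa using hN.conj_mem q0 (hfixN q0 α hq0α) k⁻¹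
    have h2 := ht h1
    rw [mem_stabilizer_iff, mul_smul, mul_smul, inv_smul_eq_iff] at h2
    exact h2
  · intro g hg
    rw [eq_bot_iff]
    intro r hr
    obtain ⟨hr1, hr2⟩ := Subgroup.mem_inf.1 hr
    rw [Subgroup.mem_pointwise_smul_iff_inv_smul_mem, ← map_inv, MulAut.smul_def, MulAut.conj_apply,
      inv_inv, Subgroup.mem_subgroupOf] at hr2
    rw [Subgroup.mem_subgroupOf, mem_stabilizer_iff] at hr1
    rw [mem_stabilizer_iff] at hr2
    simp only [Subgroup.coe_mul, Subgroup.coe_inv, mul_smul, inv_smul_eq_iff] at hr2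
    rw [Subgroup.mem_subgroupOf, mem_stabilizer_iff] at hg
    rw [Subgroup.mem_bot]
    by_contra hr0
    set β := (g : G) • α with hβ
    have hαβ : α ≠ β := fun h => hg h.symm
    -- a power of prime order
    have hord : orderOf (r : G) ≠ 1 := by
      rw [ne_eq, orderOf_eq_one_iff]
      exact fun h => hr0 (Subtype.ext h)
    obtain ⟨p, hp, hdvd⟩ := Nat.exists_prime_and_dvd hord
    haveI : Fact p.Prime := ⟨hp⟩
    set r' : G := (r : G) ^ (orderOf (r : G) / p) with hr'
    have hr'ord : orderOf r' = p := orderOf_pow_orderOf_div (orderOf_pos _).ne' hdvd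
    have hr'1 : r' ≠ 1 := fun h => hp.ne_one (by rw [← hr'ord, h, orderOf_one])
    have hpow : ∀ (ω : Ω), (r : G) • ω = ω → ∀ k : ℕ, (r : G) ^ k • ω = ω := by
      intro ω hω k
      induction k with
      | zero => simp
      | succ k ih => rw [pow_succ, mul_smul, hω, ih]
    have hα' : r' • α = α := hpow α hr1 _
    have hβ' : r' • β = β := hpow β hr2 _
    have only : ∀ ω, r' • ω = ω → ω = α ∨ ω = β := by
      intro ω hω
      by_contra hc
      simp only [not_or] at hc
      exact hr'1 (three hfix hα' hβ' hω hαβ (Ne.symm hc.1) (Ne.symm hc.2))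
    by_cases hp2 : p = 2
    · subst hp2
      have hP : IsPGroup 2 (Subgroup.zpowers r') :=
        IsPGroup.of_card (n := 1) (by rw [Nat.card_zpowers, hr'ord, pow_one])
      obtain ⟨T, hT⟩ := hP.exists_le_sylow
      obtain ⟨c, hc⟩ := MulAction.exists_smul_eq G S T
      have h1 : r' ∈ (T : Subgroup G) := hT (Subgroup.mem_zpowers r')
      rw [← hc] at h1
      have h2 : c⁻¹ * r' * c ∈ (S : Subgroup G) := by
        have := Subgroup.mem_pointwise_smul_iff_inv_smul_mem.1 h1
        simpa [MulAut.smul_def] using this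
      -- the conjugate fixes `α` and `x • α`
      have hq : (c⁻¹ * r' * c) • α = α := by
        by_contra hne
        have h3 : c⁻¹ * r' * c ∈ N := by
          simpa using hN.conj_mem r' (hfixN r' α hα') c⁻¹
        have h7 := hfixN _ α (hQ2 _ h2 hne)
        have h8 := N.mul_mem h3 (N.inv_mem h7)
        simp [mul_assoc] at h8
        exact hxN h8
      have hxα := hswap _ h2 hq
      rw [mul_smul, mul_smul, inv_smul_eq_iff] at hq hxα
      have hne : c • α ≠ c • (x • α) := by
        intro h
        exact hsep 1 (one_mem _) (by rw [one_smul]; exact (smul_left_cancel c h))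
      have hgN : ∀ a b : G, a ∈ N → b ∈ N → a • α ≠ b • (x • α) := by
        intro a b ha hb h
        refine hsep (b⁻¹ * a) (N.mul_mem (N.inv_mem hb) ha) ?_
        rw [mul_smul, inv_smul_eq_iff]
        exact h
      rcases only _ hq with h1' | h1' <;> rcases only _ hxα with h2' | h2'
      · exact hne (h1'.trans h2'.symm)
      · refine hgN (g : G) c g.2 (hfixN _ α h1') ?_
        exact (h2'.trans hβ).symm
      · refine hgN 1 c (one_mem _) ?_ ?_
        · have h9 : ((g : G))⁻¹ * c ∈ N := hfixN _ α (by rw [mul_smul, h1', hβ, inv_smul_smul])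
          simpa [mul_assoc] using N.mul_mem g.2 h9
        · rw [one_smul]; exact h2'.symm
      · exact hne (h1'.trans h2'.symm)
    · -- odd prime: count fixed points on the two orbits
      have hr'N : r' ∈ N := hfixN _ α hα'
      set R : Subgroup ↥N := Subgroup.zpowers (⟨r', hr'N⟩ : ↥N) with hR
      have hRp : IsPGroup p R := IsPGroup.of_card (n := 1) (by
        rw [Nat.card_zpowers, ← Subgroup.orderOf_coe, hr'ord, pow_one])
      have hfixR : ∀ (ω₀ : Ω) (z : orbit ↥N ω₀),
          z ∈ fixedPoints R (orbit ↥N ω₀) ↔ r' • (z : Ω) = z := by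
        intro ω₀ z
        constructor
        · intro h
          exact congrArg Subtype.val (h ⟨⟨r', hr'N⟩, Subgroup.mem_zpowers _⟩)
        · intro h m
          obtain ⟨⟨m, hmN⟩, hm⟩ := m
          obtain ⟨k, hk⟩ := Subgroup.mem_zpowers_iff.1 hm
          apply Subtype.ext
          show m • (z : Ω) = z
          have : m = r' ^ k := by
            have := congrArg Subtype.val hk
            simpa using this.symm
          rw [this]
          exact mem_fixedBy.1 (fixedBy_subset_fixedBy_zpow Ω r' k h)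
      have e1 : Nat.card (fixedPoints R (orbit ↥N α)) = 2 := by
        rw [Nat.card_eq_two_iff]
        refine ⟨⟨⟨α, mem_orbit_self α⟩, (hfixR _ _).2 hα'⟩,
          ⟨⟨β, ⟨g, rfl⟩⟩, (hfixR _ _).2 hβ'⟩, fun h => hαβ (congrArg Subtype.val (congrArg Subtype.val h)), ?_⟩
        rw [Set.eq_univ_iff_forall]
        rintro ⟨⟨ω, hω⟩, hf⟩
        rcases only ω ((hfixR _ _).1 hf) with rfl | rfl
        · exact Or.inl rfl
        · exact Or.inr rfl
      have e2 : Nat.card (fixedPoints R (orbit ↥N (x • α))) = 0 := by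
        rw [Nat.card_eq_zero]
        left
        refine ⟨fun ⟨⟨ω, hω⟩, hf⟩ => ?_⟩
        obtain ⟨n, rfl⟩ := hω
        rcases only _ ((hfixR _ _).1 hf) with h | h
        · refine hsep (n : G)⁻¹ (N.inv_mem n.2) ?_
          rw [inv_smul_eq_iff]
          exact h.symm
        · refine hsep ((n : G)⁻¹ * g) (N.mul_mem (N.inv_mem n.2) g.2) ?_
          rw [mul_smul, inv_smul_eq_iff]
          exact h.symm
      have e3 : Nat.card (orbit ↥N α) = Nat.card (orbit ↥N (x • α)) := by
        refine Nat.card_congr (Equiv.subtypeEquiv (MulAction.toPerm x) fun ω => ?_)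
        constructor
        · rintro ⟨n, rfl⟩
          refine ⟨⟨x * n * x⁻¹, hN.conj_mem _ n.2 x⟩, ?_⟩
          show (x * (n : G) * x⁻¹) • x • α = x • (n : G) • α
          simp [← mul_smul, mul_assoc]
        · rintro ⟨n, hn⟩
          refine ⟨⟨x⁻¹ * n * x, by simpa using hN.conj_mem _ n.2 x⁻¹⟩, ?_⟩
          show (x⁻¹ * (n : G) * x) • α = ω
          rw [mul_smul, mul_smul, inv_smul_eq_iff]
          exact hn
      have m1 := hRp.card_modEq_card_fixedPoints (orbit ↥N α)
      have m2 := hRp.card_modEq_card_fixedPoints (orbit ↥N (x • α))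
      rw [e1, e3] at m1
      rw [e2] at m2
      have hdv : p ∣ 2 := Nat.modEq_zero_iff_dvd.1 (m1.symm.trans m2)
      exact hp2 ((Nat.prime_dvd_prime_iff_eq hp Nat.prime_two).1 hdv)


theorem orbit_card {S : Subgroup G} (ω : Ω) (h : ∀ s ∈ S, s • ω = ω → s = 1) :
    Nat.card (orbit ↥S ω) = Nat.card S := by
  refine (Nat.card_eq_of_bijective (fun s : ↥S => (⟨s • ω, mem_orbit ω s⟩ : orbit ↥S ω)) ⟨?_, ?_⟩).symm
  · intro a b hab
    have h1 : (a : G) • ω = (b : G) • ω := congrArg Subtype.val hab
    have h2 := h ((b : G)⁻¹ * a) (mul_mem (inv_mem b.2) a.2)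
      (by rw [mul_smul, inv_smul_eq_iff]; exact h1)
    exact Subtype.ext (inv_mul_eq_one.1 h2).symm
  · rintro ⟨z, s, rfl⟩
    exact ⟨s, rfl⟩

theorem main (hfaith : ∀ g : G, (∀ ω : Ω, g • ω = ω) → g = 1) (htr : MulAction.IsPretransitive G Ω)
    (hfix : ∀ g : G, g ≠ 1 → Nat.card (MulAction.fixedBy Ω g) ≤ 2) (α : Ω) (S : Sylow 2 G) :
    (S : Subgroup G) ⊓ MulAction.stabilizer G α = ⊥ ∨
    (((∃ n : ℕ, Nonempty (↥(S : Subgroup G) ≃* DihedralGroup n)) ∨ Cfsg.IsQuasiDihedral ↥(S : Subgroup G)) ∧
       (Nat.card ↥((S : Subgroup G) ⊓ MulAction.stabilizer G α) = 2 ∨ ((S : Subgroup G) ⊓ MulAction.stabilizer G α).relIndex (S : Subgroup G) = 2)) ∨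
    (4 ≤ Nat.card (S : Subgroup G) ∧
       (∃ ω : Ω, Nat.card (MulAction.orbit ↥(S : Subgroup G) ω) = 2 ∧
          ∀ ω' : Ω, ω' ∉ MulAction.orbit ↥(S : Subgroup G) ω → Nat.card (MulAction.orbit ↥(S : Subgroup G) ω') = Nat.card (S : Subgroup G)) ∧
       ∃ N : Subgroup G, N.Normal ∧ (N.index = 2 ∨ N.index = Nat.card (S : Subgroup G)) ∧ (∃ H : Subgroup ↥N, Cfsg.IsFrobeniusComplement H)) ∨
    (S : Subgroup G) ≤ MulAction.stabilizer G α := by
  classical
  haveI : Fact (Nat.Prime 2) := ⟨Nat.prime_two⟩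
  set Q := (S : Subgroup G) ⊓ stabilizer G α with hQdef
  have hQm : ∀ s : G, s ∈ Q ↔ s ∈ (S : Subgroup G) ∧ s • α = α := fun s => by
    rw [hQdef, Subgroup.mem_inf, mem_stabilizer_iff]
  by_cases hb : Q = ⊥
  · exact Or.inl hb
  by_cases hle : (S : Subgroup G) ≤ stabilizer G α
  · exact Or.inr (Or.inr (Or.inr hle))
  right
  obtain ⟨q₁, hq₁Q, hq₁⟩ := (Subgroup.ne_bot_iff_exists_ne_one).1 hb |> fun ⟨⟨a, ha⟩, h⟩ =>
    (⟨a, ha, fun e => h (Subtype.ext e)⟩ : ∃ a, a ∈ Q ∧ a ≠ 1)
  -- an element of `S` outside `Q` normalizing `Q`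
  obtain ⟨x, hxS, hxQ, hxn⟩ : ∃ x ∈ (S : Subgroup G), x • α ≠ α ∧ ∀ q ∈ Q, x⁻¹ * q * x ∈ Q := by
    haveI : Group.IsNilpotent ↥(S : Subgroup G) := S.isPGroup'.isNilpotent
    have hlt : Q.subgroupOf (S : Subgroup G) < ⊤ := by
      rw [lt_top_iff_ne_top, ne_eq, Subgroup.subgroupOf_eq_top]
      exact fun h => hle (h.trans inf_le_right)
    obtain ⟨y, hy, hyQ⟩ := SetLike.exists_of_lt (Group.normalizerCondition_of_isNilpotent _ hlt)
    rw [Subgroup.mem_subgroupOf, hQm] at hyQ
    refine ⟨y, y.2, fun h => hyQ ⟨y.2, h⟩, fun q hq => ?_⟩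
    have := (Subgroup.mem_normalizer_iff.1 (inv_mem hy) ⟨q, ((hQm q).1 hq).1⟩).1
      (Subgroup.mem_subgroupOf.2 hq)
    rw [Subgroup.mem_subgroupOf] at this
    simpa using this
  have hswap : ∀ q ∈ Q, q • (x • α) = x • α := by
    intro q hq
    have := ((hQm _).1 (hxn q hq)).2
    rwa [mul_smul, mul_smul, inv_smul_eq_iff] at this
  have only : ∀ q ∈ Q, q ≠ 1 → ∀ ω, q • ω = ω → ω = α ∨ ω = x • α := by
    intro q hq hq1 ω hω
    by_contra hc
    simp only [not_or] at hc
    exact hq1 (three hfix ((hQm q).1 hq).2 (hswap q hq) hω (Ne.symm hxQ) (Ne.symm hc.1) (Ne.symm hc.2))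
  -- elements normalizing `Q` move `α` into the pair
  have hnorm : ∀ z ∈ (S : Subgroup G), (∀ q ∈ Q, z⁻¹ * q * z ∈ Q) → z ∈ Q ∨ x⁻¹ * z ∈ Q := by
    intro z hz hzn
    have h1 : q₁ • (z • α) = z • α := by
      have := ((hQm _).1 (hzn q₁ hq₁Q)).2
      rwa [mul_smul, mul_smul, inv_smul_eq_iff] at this
    rcases only q₁ hq₁Q hq₁ _ h1 with h | h
    · exact Or.inl ((hQm z).2 ⟨hz, h⟩)
    · exact Or.inr ((hQm _).2 ⟨mul_mem (inv_mem hxS) hz, by rw [mul_smul, h, inv_smul_smul]⟩)
  by_cases hA : ∀ z ∈ (S : Subgroup G), ∀ q ∈ Q, z⁻¹ * q * z ∈ Q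
  · have hQ2 : ∀ s ∈ (S : Subgroup G), s • α ≠ α → (x⁻¹ * s) • α = α := by
      intro s hs hne
      rcases hnorm s hs (hA s hs) with h | h
      · exact absurd ((hQm s).1 h).2 hne
      · exact ((hQm _).1 h).2
    have hx2 : (x * x) • α = α := by
      by_contra hne
      have h := hQ2 _ (mul_mem hxS hxS) hne
      simp only [← mul_assoc, inv_mul_cancel, one_mul] at h
      exact hxQ h
    have hidx : (Q.subgroupOf (S : Subgroup G)).index = 2 := by
      rw [Subgroup.index_eq_two_iff]
      refine ⟨⟨x, hxS⟩, fun b => ?_⟩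
      simp only [Subgroup.mem_subgroupOf, Subgroup.coe_mul, hQm]
      by_cases hb : (b : G) • α = α
      · refine Or.inr ⟨⟨b.2, hb⟩, fun h => ?_⟩
        have h1 : x • α = (b : G)⁻¹ • α := by
          rw [eq_inv_smul_iff, ← mul_smul]; exact h.2
        rw [show (b : G)⁻¹ • α = α by rw [inv_smul_eq_iff, hb]] at h1
        exact hxQ h1
      · refine Or.inl ⟨⟨mul_mem b.2 hxS, ?_⟩, fun h => hb h.2⟩
        have h1 : (b : G)⁻¹ • α ≠ α := fun h => hb (by rw [← h, smul_inv_smul, h])
        have h2 := hQ2 _ (inv_mem b.2) h1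
        rw [mul_smul, inv_smul_eq_iff] at h2
        rw [mul_smul, ← h2, smul_inv_smul]
    have h4 : 4 ≤ Nat.card (S : Subgroup G) := by
      have := (Q.subgroupOf (S : Subgroup G)).card_mul_index
      rw [hidx, Nat.card_congr (Subgroup.subgroupOfEquivOfLe (show Q ≤ (S : Subgroup G) from inf_le_left)).toEquiv] at this
      haveI : Nontrivial Q := (Subgroup.nontrivial_iff_ne_bot Q).2 hb
      have := Finite.one_lt_card (α := Q)
      omega
    by_cases hB : ∀ s ∈ (S : Subgroup G), ∀ ω : Ω, ω ≠ α → ω ≠ x • α → s • ω = ω → s = 1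
    · right; left
      refine ⟨h4, ⟨α, ?_, ?_⟩, ?_⟩
      · rw [Nat.card_eq_two_iff]
        refine ⟨⟨α, mem_orbit_self α⟩, ⟨x • α, mem_orbit α (⟨x, hxS⟩ : ↥(S : Subgroup G))⟩,
          fun h => hxQ (congrArg Subtype.val h).symm, ?_⟩
        rw [Set.eq_univ_iff_forall]
        rintro ⟨ω, s, rfl⟩
        by_cases hs : (s : G) • α = α
        · exact Or.inl (Subtype.ext hs)
        · have := hQ2 _ s.2 hs
          rw [mul_smul, inv_smul_eq_iff] at this
          exact Or.inr (Subtype.ext this)
      · intro ω' hω'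
        refine orbit_card ω' (fun s hs h => hB s hs ω' ?_ ?_ h)
        · exact fun e => hω' (by rw [e]; exact mem_orbit_self α)
        · exact fun e => hω' (by rw [e]; exact mem_orbit α (⟨x, hxS⟩ : ↥(S : Subgroup G)))
      · have hfpf : ∀ s ∈ (S : Subgroup G), ∀ ω : Ω, s • α ≠ α → s • ω ≠ ω := by
          intro s hs ω hne hω
          by_cases h1 : ω = α
          · exact hne (h1 ▸ hω)
          by_cases h2 : ω = x • α
          · subst h2
            have h3 := hQ2 s hs hne
            rw [mul_smul, inv_smul_eq_iff] at h3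
            exact hxQ (smul_left_cancel s (hω.trans h3.symm))
          exact hne (by rw [hB s hs ω h1 h2 hω, one_smul])
        obtain ⟨N, hN, hNi, hxN, hfixN⟩ := exists_index_two S α hidx hxS hxQ hfpf
        exact ⟨N, hN, Or.inl hNi, frobenius hfaith htr hfix S α hxS ((hQm q₁).1 hq₁Q).1
          ((hQm q₁).1 hq₁Q).2 hq₁ hQ2 (fun q hq hqα => hswap q ((hQm q).2 ⟨hq, hqα⟩)) hN hxN hfixN hNi⟩
    · left
      simp only [not_forall] at hB
      obtain ⟨t, htS, ω, hωα, hωx, htω, ht1⟩ := hB
      have htQ : t ∉ Q := fun h => by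
        rcases only t h ht1 ω htω with h' | h'
        · exact hωα h'
        · exact hωx h'
      have ht2 : t * t = 1 := by
        have h1 : (t * t) • ω = ω := by rw [mul_smul, htω, htω]
        have h2 : (Q.subgroupOf (S : Subgroup G)) = Q.subgroupOf (S : Subgroup G) := rfl
        have h3 : t * t ∈ Q := by
          have h4 := Subgroup.mul_self_mem_of_index_two hidx (⟨t, htS⟩ : ↥(S : Subgroup G))
          simpa [Subgroup.mem_subgroupOf] using h4
        by_contra h5
        rcases only _ h3 h5 ω h1 with h' | h'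
        · exact hωα h'
        · exact hωx h'
      set t' : ↥(S : Subgroup G) := ⟨t, htS⟩ with ht'
      have ht'o : orderOf t' = 2 := by
        rw [orderOf_eq_prime_iff]
        exact ⟨Subtype.ext (by simp [ht', pow_two, ht2]), fun h => ht1 (congrArg Subtype.val h)⟩
      set C := Subgroup.centralizer ({t'} : Set ↥(S : Subgroup G)) with hC
      have hCQ : Nat.card ↥(C ⊓ Q.subgroupOf (S : Subgroup G)) ≤ 2 := by
        refine le_trans (Nat.card_le_card_of_injective
          (fun c => (⟨((c : ↥(S : Subgroup G)) : G) • ω, ?_⟩ : fixedBy Ω t)) ?_) (hfix t ht1)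
        · rw [mem_fixedBy, ← mul_smul]
          have h := congrArg Subtype.val (Subgroup.mem_centralizer_singleton_iff.1 c.2.1)
          simp only [ht', Subgroup.coe_mul] at h
          rw [← h, mul_smul, htω]
        · intro a b hab
          have h1 : ((a : ↥(S : Subgroup G)) : G) • ω = ((b : ↥(S : Subgroup G)) : G) • ω :=
            congrArg Subtype.val hab
          have hq : ((b : ↥(S : Subgroup G)) : G)⁻¹ * ((a : ↥(S : Subgroup G)) : G) ∈ Q :=
            Q.mul_mem (Q.inv_mem (Subgroup.mem_subgroupOf.1 b.2.2)) (Subgroup.mem_subgroupOf.1 a.2.2)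
          by_cases h2 : ((b : ↥(S : Subgroup G)) : G)⁻¹ * ((a : ↥(S : Subgroup G)) : G) = 1
          · exact Subtype.ext (Subtype.ext (inv_mul_eq_one.1 h2).symm)
          · exfalso
            rcases only _ hq h2 ω (by rw [mul_smul, inv_smul_eq_iff]; exact h1) with h' | h'
            · exact hωα h'
            · exact hωx h'
      haveI := Subgroup.normal_of_index_eq_two hidx
      have hsub : ((Q.subgroupOf (S : Subgroup G)).subgroupOf C).index ≤ 2 := by
        have := Subgroup.relIndex_dvd_index_of_normal (Q.subgroupOf (S : Subgroup G)) C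
        rw [hidx] at this
        exact Nat.le_of_dvd two_pos this
      have hC4' : Nat.card C ≤ 4 := by
        have := ((Q.subgroupOf (S : Subgroup G)).subgroupOf C).card_mul_index
        rw [← Subgroup.inf_subgroupOf_left, Nat.card_congr (Subgroup.subgroupOfEquivOfLe inf_le_left).toEquiv] at this
        rw [← Subgroup.inf_subgroupOf_left] at hsub
        rw [← this]
        calc _ ≤ 2 * 2 := Nat.mul_le_mul hCQ hsub
          _ = 4 := rfl
      have hC4 : Nat.card C = 4 := by
        have hCp : IsPGroup 2 C := S.isPGroup'.to_subgroup C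
        obtain ⟨k, hk⟩ := IsPGroup.iff_card.1 hCp
        have hk2 : 2 ≤ k := by
          by_contra hk2
          have hCt : C = Subgroup.zpowers t' := by
            refine (Subgroup.eq_of_le_of_card_ge ?_ ?_).symm
            · rw [Subgroup.zpowers_le, hC, Subgroup.mem_centralizer_singleton_iff]
            · rw [Nat.card_zpowers, ht'o, hk]
              calc 2 ^ k ≤ 2 ^ 1 := Nat.pow_le_pow_right two_pos (by omega)
                _ = 2 := rfl
          haveI : Nontrivial ↥(S : Subgroup G) := ⟨⟨t', 1, fun h => ht1 (congrArg Subtype.val h)⟩⟩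
          haveI := S.isPGroup'.center_nontrivial
          obtain ⟨z, hz⟩ := exists_ne (1 : Subgroup.center ↥(S : Subgroup G))
          have hzC : (z : ↥(S : Subgroup G)) ∈ C := by
            rw [hC, Subgroup.mem_centralizer_singleton_iff]
            exact (Subgroup.mem_center_iff.1 z.2 t').symm
          rw [hCt] at hzC
          have hzt : (z : ↥(S : Subgroup G)) = t' := by
            obtain ⟨i, hi⟩ := Subgroup.mem_zpowers_iff.1 hzC
            have hsq : t' * t' = 1 := Subtype.ext ht2
            obtain ⟨j, rfl | rfl⟩ := Int.even_or_odd' i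
            · exfalso
              apply hz
              apply Subtype.ext
              rw [← hi, zpow_mul, zpow_two, hsq, one_zpow]
              rfl
            · rw [← hi, zpow_add, zpow_mul, zpow_two, hsq, one_zpow, one_mul, zpow_one]
          have hCtop : C = ⊤ := by
            rw [eq_top_iff]
            intro y _
            rw [hC, Subgroup.mem_centralizer_singleton_iff, ← hzt]
            exact (Subgroup.mem_center_iff.1 z.2 y)
          rw [hCtop, Subgroup.card_top] at hk
          have : 2 ^ k ≤ 2 ^ 1 := Nat.pow_le_pow_right two_pos (by omega)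
          omega
        rw [hk] at hC4' ⊢
        have : k ≤ 2 := by
          by_contra hk3
          have := Nat.pow_le_pow_right two_pos (show 3 ≤ k by omega)
          omega
        interval_cases k
        rfl
      refine ⟨?_, Or.inr hidx⟩
      rcases S3224.result S.isPGroup' t' ht'o hC4 with h | h | h
      · exact Or.inl h
      · exact Or.inr h
      · left
        refine ⟨2, ?_⟩
        have hcomm : ∀ a b : ↥(S : Subgroup G), a * b = b * a :=
          (IsPGroup.isMulCommutative_of_card_eq_prime_sq (p := 2) (by rw [h]; rfl)).is_comm.comm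
        have hQcard : Nat.card ↥(Q.subgroupOf (S : Subgroup G)) = 2 := by
          have := (Q.subgroupOf (S : Subgroup G)).card_mul_index
          rw [hidx, h] at this
          omega
        have hsqQ : ∀ u ∈ Q.subgroupOf (S : Subgroup G), u ^ 2 = 1 := by
          intro u hu
          have h1 : (⟨u, hu⟩ : ↥(Q.subgroupOf (S : Subgroup G))) ^ 2 = 1 := by
            have h0 := pow_card_eq_one' (x := (⟨u, hu⟩ : ↥(Q.subgroupOf (S : Subgroup G))))
            rwa [hQcard] at h0
          simpa using congrArg Subtype.val h1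
        have hall : ∀ u : ↥(S : Subgroup G), u ^ 2 = 1 := by
          intro u
          by_cases hu : u ∈ Q.subgroupOf (S : Subgroup G)
          · exact hsqQ u hu
          · have ht'Q : t' ∉ Q.subgroupOf (S : Subgroup G) := fun h => htQ (Subgroup.mem_subgroupOf.1 h)
            have h1 : u * t' ∈ Q.subgroupOf (S : Subgroup G) :=
              (Subgroup.mul_mem_iff_of_index_two hidx).2 (iff_of_false hu ht'Q)
            have h2 := hsqQ _ h1
            have hc : Commute u t' := hcomm u t'
            rw [hc.mul_pow, pow_two t', show t' * t' = 1 from Subtype.ext ht2, mul_one] at h2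
            exact h2
        haveI : IsKleinFour ↥(S : Subgroup G) := by
          haveI : Nontrivial ↥(S : Subgroup G) := Finite.one_lt_card_iff_nontrivial.1 (by omega)
          exact ⟨h, (Monoid.exponent_eq_prime_iff Nat.prime_two).2 fun g hg => orderOf_eq_prime (hall g) hg⟩
        exact IsKleinFour.nonempty_mulEquiv
  · -- `Q` is not normal in `S`
    left
    simp only [not_forall] at hA
    obtain ⟨z₀, hz₀S, q₂, hq₂, hz₀⟩ := hA
    set T : Subgroup ↥(S : Subgroup G) :=
      Subgroup.normalizer ((Q.subgroupOf (S : Subgroup G) : Subgroup ↥(S : Subgroup G)) : Set ↥(S : Subgroup G)) with hT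
    have hTmem : ∀ u ∈ T, ∀ q ∈ Q, (u : G)⁻¹ * q * u ∈ Q := by
      intro u hu q hq
      have := (Subgroup.mem_normalizer_iff.1 (inv_mem hu) ⟨q, ((hQm q).1 hq).1⟩).1
        (Subgroup.mem_subgroupOf.2 hq)
      rw [Subgroup.mem_subgroupOf] at this
      simpa using this
    have hTlt : T < ⊤ := by
      rw [lt_top_iff_ne_top]
      intro h
      exact hz₀ (hTmem ⟨z₀, hz₀S⟩ (h ▸ Subgroup.mem_top _) q₂ hq₂)
    haveI : Group.IsNilpotent ↥(S : Subgroup G) := S.isPGroup'.isNilpotent
    obtain ⟨z, hzn, hzT⟩ := SetLike.exists_of_lt (Group.normalizerCondition_of_isNilpotent _ hTlt)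
    have hQT : Q.subgroupOf (S : Subgroup G) ≤ T := Subgroup.le_normalizer
    have hTQ : ∀ u ∈ T, (u : G) ∈ Q ∨ x⁻¹ * (u : G) ∈ Q := fun u hu =>
      hnorm u u.2 (hTmem u hu)
    have hzα : (z : G) • α ≠ α ∧ (z : G) • α ≠ x • α := by
      constructor
      · intro h
        exact hzT (hQT (Subgroup.mem_subgroupOf.2 ((hQm _).2 ⟨z.2, h⟩)))
      · intro h
        have h1 : x⁻¹ * (z : G) ∈ Q :=
          (hQm _).2 ⟨mul_mem (inv_mem hxS) z.2, by rw [mul_smul, h, inv_smul_smul]⟩
        have hxT : (⟨x, hxS⟩ : ↥(S : Subgroup G)) ∈ T := by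
          rw [hT]
          refine Subgroup.mem_normalizer_iff.2 fun u => ?_
          simp only [Subgroup.mem_subgroupOf, Subgroup.coe_mul, Subgroup.coe_inv]
          have hinj : Function.Bijective (fun q : Q => (⟨x⁻¹ * (q : G) * x, hxn q q.2⟩ : Q)) := by
            refine Finite.injective_iff_bijective.1 fun a b hab => ?_
            exact Subtype.ext (mul_left_cancel (mul_right_cancel (congrArg Subtype.val hab)))
          constructor
          · intro hu
            obtain ⟨⟨q, hq⟩, hqe⟩ := hinj.2 ⟨(u : G), hu⟩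
            have he : x⁻¹ * q * x = (u : G) := congrArg Subtype.val hqe
            rw [← he]
            simpa [mul_assoc] using hq
          · intro hu
            simpa [mul_assoc] using hxn _ hu
        have h2 : (⟨x, hxS⟩ : ↥(S : Subgroup G))⁻¹ * z ∈ T :=
          hQT (Subgroup.mem_subgroupOf.2 (by simpa using h1))
        have h3 := T.mul_mem hxT h2
        rw [← mul_assoc, mul_inv_cancel, one_mul] at h3
        exact hzT h3
    have hzT' : ∀ q ∈ Q, ∀ hq : q ∈ (S : Subgroup G),
        z * ⟨q, hq⟩ * z⁻¹ ∈ T := fun q hqQ hq =>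
      (Subgroup.mem_normalizer_iff.1 hzn _).1 (hQT (Subgroup.mem_subgroupOf.2 hqQ))
    have htriv : ∀ q ∈ Q, (z : G) * q * (z : G)⁻¹ ∈ Q → q = 1 := by
      intro q hq hzq
      by_contra hq1
      have hne : (z : G) * q * (z : G)⁻¹ ≠ 1 := fun h => hq1 (by
        have := congrArg (fun e => (z : G)⁻¹ * e * z) h
        simpa [mul_assoc] using this)
      have h1 : ((z : G) * q * (z : G)⁻¹) • ((z : G) • α) = (z : G) • α := by
        rw [← mul_smul, inv_mul_cancel_right, mul_smul, ((hQm q).1 hq).2]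
      rcases only _ hzq hne _ h1 with h | h
      · exact hzα.1 h
      · exact hzα.2 h
    have hQle : ∀ q ∈ Q, q ≠ 1 → q = q₁ := by
      intro q hq hq1
      have hqS := ((hQm q).1 hq).1
      have h₁S := ((hQm q₁).1 hq₁Q).1
      have a := hTQ _ (hzT' q hq hqS)
      have b := hTQ _ (hzT' q₁ hq₁Q h₁S)
      simp only [Subgroup.coe_mul, Subgroup.coe_inv] at a b
      rcases a with a | a
      · exact absurd (htriv q hq a) hq1
      rcases b with b | b
      · exact absurd (htriv q₁ hq₁Q b) hq₁
      have h := Q.mul_mem (Q.inv_mem b) a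
      have he : (x⁻¹ * ((z : G) * q₁ * (z : G)⁻¹))⁻¹ * (x⁻¹ * ((z : G) * q * (z : G)⁻¹))
          = (z : G) * (q₁⁻¹ * q) * (z : G)⁻¹ := by group
      rw [he] at h
      exact (inv_mul_eq_one.1 (htriv _ (Q.mul_mem (Q.inv_mem hq₁Q) hq) h)).symm
    have hQ2' : Nat.card Q = 2 := by
      rw [Nat.card_eq_two_iff]
      refine ⟨⟨1, Q.one_mem⟩, ⟨q₁, hq₁Q⟩, fun h => hq₁ (congrArg Subtype.val h).symm, ?_⟩
      rw [Set.eq_univ_iff_forall]
      rintro ⟨q, hq⟩
      by_cases h : q = 1
      · exact Or.inl (Subtype.ext h)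
      · exact Or.inr (Subtype.ext (hQle q hq h))
    set q' : ↥(S : Subgroup G) := ⟨q₁, ((hQm q₁).1 hq₁Q).1⟩ with hq'
    have hq'o : orderOf q' = 2 := by
      refine orderOf_eq_prime (Subtype.ext ?_) (fun h => hq₁ (congrArg Subtype.val h))
      have h1 : (⟨q₁, hq₁Q⟩ : Q) ^ 2 = 1 := by
        have h0 := pow_card_eq_one' (x := (⟨q₁, hq₁Q⟩ : Q))
        rwa [hQ2'] at h0
      simpa [hq'] using congrArg Subtype.val h1
    have hCT : Subgroup.centralizer ({q'} : Set ↥(S : Subgroup G)) = T := by
      have hcen : ∀ u : ↥(S : Subgroup G), u ∈ Subgroup.centralizer ({q'} : Set ↥(S : Subgroup G)) ↔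
          (u : G) * q₁ = q₁ * u := by
        intro u
        rw [Subgroup.mem_centralizer_singleton_iff, Subtype.ext_iff]
        rfl
      ext u
      rw [hcen]
      constructor
      · intro hu
        rw [hT]
        refine Subgroup.mem_normalizer_iff.2 fun w => ?_
        simp only [Subgroup.mem_subgroupOf, Subgroup.coe_mul, Subgroup.coe_inv]
        constructor
        · intro hw
          by_cases h : (w : G) = 1
          · simp [h]
          · rw [hQle _ hw h, hu, mul_inv_cancel_right]
            exact hq₁Q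
        · intro hw
          by_cases h : (u : G) * w * (u : G)⁻¹ = 1
          · have : (w : G) = 1 := by
              have := congrArg (fun e => (u : G)⁻¹ * e * u) h
              simpa [mul_assoc] using this
            simp [this]
          · have h1 : (w : G) = (u : G)⁻¹ * q₁ * u := by
              rw [← hQle _ hw h]; group
            rw [h1, mul_assoc, ← hu, inv_mul_cancel_left]
            exact hq₁Q
      · intro hu
        have h1 : (u : G)⁻¹ * q₁ * u ∈ Q := hTmem u hu q₁ hq₁Q
        have h2 : (u : G)⁻¹ * q₁ * u ≠ 1 := fun h => hq₁ (by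
          have := congrArg (fun e => (u : G) * e * (u : G)⁻¹) h
          simpa [mul_assoc] using this)
        calc (u : G) * q₁ = (u : G) * ((u : G)⁻¹ * q₁ * u) := by rw [hQle _ h1 h2]
          _ = q₁ * u := by group
    have hxT2 : ((Q.subgroupOf (S : Subgroup G)).subgroupOf T).index = 2 := by
      have hzq := hzT' q₁ hq₁Q ((hQm q₁).1 hq₁Q).1
      have hnQ : (z : G) * q₁ * (z : G)⁻¹ ∉ Q := fun h => hq₁ (htriv q₁ hq₁Q h)
      rw [Subgroup.index_eq_two_iff]
      refine ⟨⟨_, hzq⟩, fun b => ?_⟩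
      simp only [Subgroup.mem_subgroupOf, Subgroup.coe_mul, Subgroup.coe_inv]
      set w := (z : G) * q₁ * (z : G)⁻¹ with hw
      by_cases hb : ((b : ↥(S : Subgroup G)) : G) ∈ Q
      · refine Or.inr ⟨hb, fun h => hnQ ?_⟩
        simpa [mul_assoc] using Q.mul_mem (Q.inv_mem hb) h
      · refine Or.inl ⟨?_, hb⟩
        have hb' := (hTQ _ b.2).resolve_left hb
        have hw' : x⁻¹ * w ∈ Q := by
          have := (hTQ _ hzq).resolve_left (by simpa [hw] using hnQ)
          simpa [hw] using this
        have hw2 : w * w = 1 := by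
          have h1 : q₁ * q₁ = 1 := by
            have := congrArg Subtype.val (pow_orderOf_eq_one q')
            rw [hq'o] at this
            simpa [hq', pow_two] using this
          rw [hw, show (z : G) * q₁ * (z : G)⁻¹ * ((z : G) * q₁ * (z : G)⁻¹)
            = (z : G) * (q₁ * q₁) * (z : G)⁻¹ by group, h1]
          group
        -- `b` and `w` lie in the same coset of `Q`, and `T` normalizes `Q`
        have h3 : w⁻¹ * ((b : ↥(S : Subgroup G)) : G) ∈ Q := by
          simpa [mul_assoc] using Q.mul_mem (Q.inv_mem hw') hb'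
        have h4 : w⁻¹ * (w⁻¹ * ((b : ↥(S : Subgroup G)) : G)) * w ∈ Q := by
          have := hTmem _ hzq _ h3
          simpa [hw] using this
        rw [show w⁻¹ * (w⁻¹ * ((b : ↥(S : Subgroup G)) : G)) * w
          = (w * w)⁻¹ * (((b : ↥(S : Subgroup G)) : G) * w) by group, hw2, inv_one, one_mul] at h4
        exact h4
    have hT4 : Nat.card T = 4 := by
      have := ((Q.subgroupOf (S : Subgroup G)).subgroupOf T).card_mul_index
      rw [hxT2, Nat.card_congr (Subgroup.subgroupOfEquivOfLe hQT).toEquiv,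
        Nat.card_congr (Subgroup.subgroupOfEquivOfLe (show Q ≤ (S : Subgroup G) from inf_le_left)).toEquiv,
        hQ2'] at this
      exact this.symm
    refine ⟨?_, Or.inl hQ2'⟩
    rcases S3224.result S.isPGroup' q' hq'o (hCT ▸ hT4) with h | h | h
    · exact Or.inl h
    · exact Or.inr h
    · exact absurd (Subgroup.eq_top_of_card_eq T (hT4.trans h.symm)) hTlt.ne

end Cfsg.Agent.H80.FixTwo
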