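import Mathlib

/-!
Flats of a permutation group: sets of at most half the points (rounded up) whose pointwise
stabiliser is transitive on the remaining points, together with the whole set.
-/

open Equiv Finset

namespace Cfsg.Agent.H80

variable {α : Type*} [Fintype α] [DecidableEq α] {G : Subgroup (Perm α)}

/-- The pointwise stabiliser of `X` in `G` is transitive outside `X`. -/
def IsJordanComplement (G : Subgroup (Perm α)) (X : Finset α) : Prop :=
  ∀ x ∉ X, ∀ y ∉ X, ∃ g ∈ G, (∀ z ∈ X, g z = z) ∧ g x = y

/-- A flat is the whole set or a Jordan complement with at most `(n + 1) / 2` points. -/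
def IsFlat (G : Subgroup (Perm α)) (X : Finset α) : Prop :=
  X = univ ∨ (IsJordanComplement G X ∧ 2 * X.card ≤ Fintype.card α + 1)

/-- The least flat containing a set. -/
noncomputable def flatClosure (G : Subgroup (Perm α)) (S : Finset α) : Finset α :=
  open scoped Classical in
  (univ.filter fun X : Finset α => IsFlat G X ∧ S ⊆ X).inf id

/-- The number of points by which a least flat over `X` and a further point exceeds `X`. -/
noncomputable def flatGap (G : Subgroup (Perm α)) (X : Finset α) : ℕ :=
  open scoped Classical in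
  if h : ∃ x, x ∉ X then (flatClosure G (insert h.choose X)).card - X.card else 0

omit [Fintype α] in
/-- The image of a Jordan complement under the group is one. -/
theorem IsJordanComplement.image {X : Finset α} (h : IsJordanComplement G X) {g : Perm α}
    (hg : g ∈ G) : IsJordanComplement G (X.image g) := by
  intro x hx y hy
  have hmem : ∀ z, z ∉ X.image g → g⁻¹ z ∉ X := fun z hz hz' =>
    hz (mem_image.2 ⟨_, hz', by simp⟩)
  obtain ⟨k, hk, hfix, hkx⟩ := h _ (hmem x hx) _ (hmem y hy)
  refine ⟨g * k * g⁻¹, G.mul_mem (G.mul_mem hg hk) (G.inv_mem hg), fun z hz => ?_, ?_⟩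
  · obtain ⟨w, hw, rfl⟩ := mem_image.1 hz
    simp [hfix w hw]
  · rw [Perm.mul_apply, Perm.mul_apply, hkx, ← Perm.mul_apply, mul_inv_cancel, Perm.one_apply]

/-- The image of a flat under the group is a flat. -/
theorem IsFlat.image {X : Finset α} (h : IsFlat G X) {g : Perm α} (hg : g ∈ G) :
    IsFlat G (X.image g) := by
  rcases h with rfl | ⟨h1, h2⟩
  · left; ext x; simp only [mem_image, mem_univ, true_and, iff_true]; exact ⟨g⁻¹ x, by simp⟩
  · exact Or.inr ⟨h1.image hg, by rwa [card_image_of_injective _ g.injective]⟩

/-- Two flats sharing two points meet in a flat. -/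
theorem IsFlat.inter {X Y : Finset α} (hX : IsFlat G X) (hY : IsFlat G Y)
    (h2 : 2 ≤ (X ∩ Y).card) : IsFlat G (X ∩ Y) := by
  rcases hX with rfl | ⟨hX1, hX2⟩
  · rwa [univ_inter]
  rcases hY with rfl | ⟨hY1, hY2⟩
  · rw [inter_univ]; exact Or.inr ⟨hX1, hX2⟩
  have hu := card_union_add_card_inter X Y
  have hsub := card_le_card (inter_subset_left : X ∩ Y ⊆ X)
  obtain ⟨z, hz⟩ : ∃ z, z ∉ X ∪ Y := by
    by_contra hall
    push Not at hall
    have := eq_univ_of_forall hall
    rw [this, card_univ] at hu
    omega
  rw [mem_union, not_or] at hz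
  have step : ∀ x, x ∉ X ∩ Y → ∃ g ∈ G, (∀ w ∈ X ∩ Y, g w = w) ∧ g x = z := by
    intro x hx
    by_cases hxX : x ∈ X
    · obtain ⟨g, hg, hfix, hgx⟩ := hY1 x (fun h => hx (mem_inter.2 ⟨hxX, h⟩)) z hz.2
      exact ⟨g, hg, fun w hw => hfix w (mem_inter.1 hw).2, hgx⟩
    · obtain ⟨g, hg, hfix, hgx⟩ := hX1 x hxX z hz.1
      exact ⟨g, hg, fun w hw => hfix w (mem_inter.1 hw).1, hgx⟩
  refine Or.inr ⟨fun x hx y hy => ?_, by omega⟩
  obtain ⟨g, hg, hgfix, hgx⟩ := step x hx
  obtain ⟨k, hk, hkfix, hky⟩ := step y hy
  refine ⟨k⁻¹ * g, G.mul_mem (G.inv_mem hk) hg, fun w hw => ?_, ?_⟩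
  · rw [Perm.mul_apply, hgfix w hw, Perm.inv_eq_iff_eq, hkfix w hw]
  · rw [Perm.mul_apply, hgx, Perm.inv_eq_iff_eq, hky]

/-- A set lies in its closure. -/
theorem subset_flatClosure (S : Finset α) : S ⊆ flatClosure G S := by
  classical
  rw [flatClosure]
  refine Finset.le_inf fun X hX => ?_
  simp only [mem_filter] at hX
  exact hX.2.2

/-- The closure lies in every flat containing the set. -/
theorem flatClosure_subset {S X : Finset α} (hX : IsFlat G X) (h : S ⊆ X) :
    flatClosure G S ⊆ X := by
  classical
  rw [flatClosure]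
  exact Finset.inf_le (f := id) (mem_filter.2 ⟨mem_univ _, hX, h⟩)

/-- The closure of a set of at least two points is a flat. -/
theorem isFlat_flatClosure {S : Finset α} (hS : 2 ≤ S.card) : IsFlat G (flatClosure G S) := by
  classical
  rw [flatClosure]
  refine (Finset.inf_induction (p := fun X => IsFlat G X ∧ S ⊆ X) ⟨Or.inl rfl, subset_univ S⟩
    (fun a ha b hb => ⟨?_, ?_⟩) fun X hX => (mem_filter.1 hX).2).1
  · exact ha.1.inter hb.1 (hS.trans (card_le_card (subset_inter ha.2 hb.2)))
  · exact subset_inter ha.2 hb.2

/-- A flat of at least two points is its own closure. -/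
theorem flatClosure_eq_self {S : Finset α} (hS : IsFlat G S) : flatClosure G S = S :=
  (flatClosure_subset hS subset_rfl).antisymm (subset_flatClosure S)

/-- The closure commutes with the group. -/
theorem flatClosure_image {S : Finset α} (hS : 2 ≤ S.card) {g : Perm α} (hg : g ∈ G) :
    flatClosure G (S.image g) = (flatClosure G S).image g := by
  refine subset_antisymm (flatClosure_subset ((isFlat_flatClosure hS).image hg)
    (image_subset_image (subset_flatClosure S))) ?_
  have hS' : 2 ≤ (S.image g).card := by rwa [card_image_of_injective _ g.injective]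
  have h := flatClosure_subset ((isFlat_flatClosure (G := G) hS').image (G.inv_mem hg))
    (S := S) (fun x hx => mem_image.2 ⟨g x, subset_flatClosure _ (mem_image_of_mem g hx), by simp⟩)
  intro x hx
  obtain ⟨w, hw, rfl⟩ := mem_image.1 hx
  obtain ⟨v, hv, rfl⟩ := mem_image.1 (h hw)
  simpa using hv

omit [Fintype α] in
/-- Adding a point outside a non-empty set gives at least two points. -/
theorem two_le_card_insert {X : Finset α} (hX : X.Nonempty) {x : α} (hx : x ∉ X) :
    2 ≤ (insert x X).card := by
  rw [card_insert_of_notMem hx]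
  have := hX.card_pos
  omega

/-- A point outside a flat can be moved to any other, fixing the flat. -/
theorem IsFlat.exists_move {X : Finset α} (h : IsFlat G X) {x y : α} (hx : x ∉ X) (hy : y ∉ X) :
    ∃ g ∈ G, X.image g = X ∧ g x = y := by
  rcases h with rfl | ⟨h1, -⟩
  · exact absurd (mem_univ x) hx
  · obtain ⟨g, hg, hfix, hgx⟩ := h1 x hx y hy
    refine ⟨g, hg, ?_, hgx⟩
    rw [image_congr (fun z hz => hfix z hz), image_id']

/-- The least flats over `X` and a point all have the same size. -/
theorem card_cover {X : Finset α} (hX : IsFlat G X) (hne : X.Nonempty) {x : α} (hx : x ∉ X) :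
    (flatClosure G (insert x X)).card = X.card + flatGap G X ∧ 0 < flatGap G X := by
  classical
  have hex : ∃ x, x ∉ X := ⟨x, hx⟩
  obtain ⟨x₀, hx₀, hdef⟩ : ∃ x₀, x₀ ∉ X ∧ hex.choose = x₀ := ⟨_, hex.choose_spec, rfl⟩
  obtain ⟨g, hg, hgX, hgx⟩ := hX.exists_move hx₀ hx
  have heq : (flatClosure G (insert x X)).card = (flatClosure G (insert x₀ X)).card := by
    have e : insert x X = (insert x₀ X).image g := by rw [image_insert, hgX, hgx]
    rw [e, flatClosure_image (two_le_card_insert hne hx₀) hg]
    exact card_image_of_injective _ g.injective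
  have hlt : X.card < (flatClosure G (insert x X)).card :=
    (Nat.lt_of_lt_of_le (by rw [card_insert_of_notMem hx]; omega)
      (card_le_card (subset_flatClosure _)))
  rw [flatGap, dif_pos hex, hdef, ← heq]
  omega

/-- A point of the least flat over `X` and `x` outside `X` determines that flat. -/
theorem cover_eq_of_mem {X : Finset α} (hX : IsFlat G X) (hne : X.Nonempty) {x y : α}
    (hx : x ∉ X) (hy : y ∈ flatClosure G (insert x X)) (hyX : y ∉ X) :
    flatClosure G (insert y X) = flatClosure G (insert x X) := by
  refine eq_of_subset_of_card_le (flatClosure_subset (isFlat_flatClosure (two_le_card_insert hne hx))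
    (insert_subset hy ((subset_insert x X).trans (subset_flatClosure _)))) ?_
  rw [(card_cover hX hne hx).1, (card_cover hX hne hyX).1]

/-- The gap is invariant under the group. -/
theorem flatGap_image {X : Finset α} (hX : IsFlat G X) (hne : X.Nonempty) {g : Perm α}
    (hg : g ∈ G) : flatGap G (X.image g) = flatGap G X := by
  classical
  by_cases hex : ∃ x, x ∉ X
  · obtain ⟨x, hx⟩ := hex
    have hx' : g x ∉ X.image g := fun h => hx (by simpa using h)
    have h1 := (card_cover (hX.image hg) (hne.image _) hx').1
    have h2 := (card_cover hX hne hx).1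
    rw [← image_insert, flatClosure_image (two_le_card_insert hne hx) hg,
      card_image_of_injective _ g.injective, card_image_of_injective _ g.injective] at h1
    omega
  · have hex' : ¬∃ x, x ∉ X.image g := fun ⟨x, hx⟩ => hex ⟨g⁻¹ x, fun h => hx
      (mem_image.2 ⟨_, h, by simp⟩)⟩
    rw [flatGap, flatGap, dif_neg hex, dif_neg hex']

/-- The least flats over `X` inside a flat containing `X` cut the rest into pieces of one size. -/
theorem card_covers_mul {X Z : Finset α} (hX : IsFlat G X) (hne : X.Nonempty) (hZ : IsFlat G Z)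
    (hXZ : X ⊆ Z) :
    ((Z \ X).image fun x => flatClosure G (insert x X)).card * flatGap G X =
      Z.card - X.card := by
  classical
  rw [← card_sdiff_of_subset hXZ,
    card_eq_sum_card_fiberwise (f := fun x => flatClosure G (insert x X)) (s := Z \ X)
      (t := (Z \ X).image fun x => flatClosure G (insert x X)) (fun x hx => mem_image_of_mem _ hx)]
  rw [← smul_eq_mul, ← sum_const]
  refine sum_congr rfl fun W hW => ?_
  obtain ⟨y, hy, rfl⟩ := mem_image.1 hW
  rw [mem_sdiff] at hy
  have hfib : (Z \ X).filter (fun x => flatClosure G (insert x X) = flatClosure G (insert y X)) =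
      flatClosure G (insert y X) \ X := by
    ext x
    simp only [mem_filter, mem_sdiff]
    constructor
    · rintro ⟨⟨-, hxX⟩, hx⟩
      exact ⟨hx ▸ subset_flatClosure _ (mem_insert_self _ _), hxX⟩
    · rintro ⟨hx, hxX⟩
      exact ⟨⟨flatClosure_subset hZ (insert_subset hy.1 hXZ) hx, hxX⟩,
        cover_eq_of_mem hX hne hy.2 hx hxX⟩
  rw [hfib, card_sdiff_of_subset ((subset_insert y X).trans (subset_flatClosure _)),
    (card_cover hX hne hy.2).1, Nat.add_sub_cancel_left]

omit [Fintype α] [DecidableEq α] in
/-- An image is no larger than a finer image. -/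
theorem card_image_le_card_image {β γ : Type*} [DecidableEq β] [DecidableEq γ] (s : Finset α)
    (f : α → β) (ψ : α → γ) (h : ∀ a ∈ s, ∀ b ∈ s, ψ a = ψ b → f a = f b) :
    (s.image f).card ≤ (s.image ψ).card := by
  classical
  rcases s.eq_empty_or_nonempty with rfl | ⟨a₀, ha₀⟩
  · simp
  have hrep : ∀ c : γ, ∃ a, a ∈ s ∧ (c ∈ s.image ψ → ψ a = c) := fun c => by
    by_cases hc : c ∈ s.image ψ
    · obtain ⟨a, ha, e⟩ := mem_image.1 hc; exact ⟨a, ha, fun _ => e⟩
    · exact ⟨a₀, ha₀, fun h' => absurd h' hc⟩
  choose rep hrep1 hrep2 using hrep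
  refine (card_le_card (t := (s.image ψ).image (f ∘ rep)) fun b hb => ?_).trans card_image_le
  obtain ⟨a, ha, rfl⟩ := mem_image.1 hb
  exact mem_image.2 ⟨ψ a, mem_image_of_mem ψ ha,
    h _ (hrep1 _) a ha (hrep2 _ (mem_image_of_mem ψ ha))⟩

/-- The gap divides the next gap. -/
theorem flatGap_dvd {X : Finset α} (hX : IsFlat G X) (hne : X.Nonempty) {y : α} (hy : y ∉ X)
    {z : α} (hz : z ∉ flatClosure G (insert y X)) :
    flatGap G X ∣ flatGap G (flatClosure G (insert y X)) := by
  set Y := flatClosure G (insert y X) with hY
  have hYf : IsFlat G Y := isFlat_flatClosure (two_le_card_insert hne hy)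
  have hYne : Y.Nonempty := hne.mono ((subset_insert y X).trans (subset_flatClosure _))
  have hc := card_covers_mul hX hne (Z := flatClosure G (insert z Y))
    (isFlat_flatClosure (two_le_card_insert hYne hz))
    ((subset_insert y X).trans ((subset_flatClosure _).trans
      ((subset_insert z Y).trans (subset_flatClosure _))))
  rw [(card_cover hYf hYne hz).1, hY, (card_cover hX hne hy).1, ← hY, add_assoc,
    Nat.add_sub_cancel_left] at hc
  exact (Nat.dvd_add_right dvd_rfl).1 ⟨_, (hc.symm.trans (mul_comm _ _))⟩

/-- Along three successive least flats the gaps grow at least geometrically. -/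
theorem flatGap_sq_le {X' : Finset α} (hX' : IsFlat G X') (hne' : X'.Nonempty) {x : α}
    (hx : x ∉ X') {y : α} (hy : y ∉ flatClosure G (insert x X')) {z : α}
    (hz : z ∉ flatClosure G (insert y (flatClosure G (insert x X')))) :
    flatGap G (flatClosure G (insert x X')) * flatGap G (flatClosure G (insert x X')) ≤
      flatGap G (flatClosure G (insert y (flatClosure G (insert x X')))) * flatGap G X' := by
  classical
  set X := flatClosure G (insert x X') with hXdef
  set Y := flatClosure G (insert y X) with hYdef
  set Z := flatClosure G (insert z Y) with hZdef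
  have hX'X : X' ⊆ X := (subset_insert x X').trans (subset_flatClosure _)
  have hXY : X ⊆ Y := (subset_insert y X).trans (subset_flatClosure _)
  have hYZ : Y ⊆ Z := (subset_insert z Y).trans (subset_flatClosure _)
  have hXf : IsFlat G X := isFlat_flatClosure (two_le_card_insert hne' hx)
  have hne : X.Nonempty := hne'.mono hX'X
  have hYf : IsFlat G Y := isFlat_flatClosure (two_le_card_insert hne hy)
  have hYne : Y.Nonempty := hne.mono hXY
  have hZf : IsFlat G Z := isFlat_flatClosure (two_le_card_insert hYne hz)
  have eX : X.card = X'.card + flatGap G X' := (card_cover hX' hne' hx).1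
  have eY : Y.card = X.card + flatGap G X := (card_cover hXf hne hy).1
  have eZ : Z.card = Y.card + flatGap G Y := (card_cover hYf hYne hz).1
  -- every least flat over `X'` is a translate of `X`
  have htrans : ∀ w, w ∉ X' → IsFlat G (flatClosure G (insert w X')) ∧
      (flatClosure G (insert w X')).Nonempty ∧
      (flatClosure G (insert w X')).card = X.card ∧
      flatGap G (flatClosure G (insert w X')) = flatGap G X := by
    intro w hw
    obtain ⟨g, hg, hgX, hgx⟩ := hX'.exists_move hx hw
    have e : flatClosure G (insert w X') = X.image g := by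
      rw [hXdef, ← flatClosure_image (two_le_card_insert hne' hx) hg, image_insert, hgX, hgx]
    rw [e]
    exact ⟨hXf.image hg, hne.image _, card_image_of_injective _ g.injective,
      flatGap_image hXf hne hg⟩
  have hzX' : z ∉ X' := fun h => hz (hXY (hX'X h))
  obtain ⟨hRf, hRne, hRcard, hRgap⟩ := htrans z hzX'
  set R := flatClosure G (insert z X') with hRdef
  have hRZ : R ⊆ Z := flatClosure_subset hZf
    (insert_subset (subset_flatClosure _ (mem_insert_self _ _)) (hX'X.trans (hXY.trans hYZ)))
  have hP := card_covers_mul hX' hne' hYf (hX'X.trans hXY)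
  have hQ := card_covers_mul hRf hRne hZf hRZ
  rw [hRgap, hRcard] at hQ
  have hnotR : ∀ w ∈ Y, w ∉ X' → w ∉ R := by
    intro w hw hw' hwR
    have h1 := cover_eq_of_mem hX' hne' hzX' hwR hw'
    refine hz (flatClosure_subset hYf (insert_subset hw (hX'X.trans hXY)) ?_)
    rw [h1]
    exact subset_flatClosure _ (mem_insert_self _ _)
  have hinj : ∀ a ∈ Y \ X', ∀ b ∈ Y \ X',
      flatClosure G (insert a R) = flatClosure G (insert b R) →
      flatClosure G (insert a X') = flatClosure G (insert b X') := by
    intro a ha b hb hab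
    rw [mem_sdiff] at ha hb
    set A := flatClosure G (insert a X')
    by_cases hbA : b ∈ A
    · exact (cover_eq_of_mem hX' hne' ha.2 hbA hb.2).symm
    exfalso
    obtain ⟨hAf, hAne, hAcard, hAgap⟩ := htrans a ha.2
    set W := flatClosure G (insert a R) with hW
    have haR := hnotR a ha.1 ha.2
    have hWf : IsFlat G W := isFlat_flatClosure (two_le_card_insert hRne haR)
    have hRW : R ⊆ W := (subset_insert a R).trans (subset_flatClosure _)
    have haW : a ∈ W := subset_flatClosure _ (mem_insert_self _ _)
    have hbW : b ∈ W := hab.symm ▸ subset_flatClosure _ (mem_insert_self b R)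
    have hX'R : X' ⊆ R := (subset_insert z X').trans (subset_flatClosure _)
    have hAW : A ⊆ W := flatClosure_subset hWf (insert_subset haW (hX'R.trans hRW))
    have hAY : A ⊆ Y := flatClosure_subset hYf (insert_subset ha.1 (hX'X.trans hXY))
    have hAbY : flatClosure G (insert b A) = Y := by
      refine eq_of_subset_of_card_le (flatClosure_subset hYf (insert_subset hb.1 hAY)) ?_
      rw [(card_cover hAf hAne hbA).1, hAcard, hAgap, eY]
    have hYW : Y ⊆ W := hAbY ▸ flatClosure_subset hWf (insert_subset hbW hAW)
    have hcW : W.card = R.card + flatGap G R := (card_cover hRf hRne haR).1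
    rw [hRcard, hRgap, ← eY] at hcW
    have := eq_of_subset_of_card_le hYW hcW.le
    exact hz (this ▸ hRW (subset_flatClosure _ (mem_insert_self z X')))
  have hle : ((Y \ X').image fun w => flatClosure G (insert w X')).card ≤
      ((Z \ R).image fun w => flatClosure G (insert w R)).card := by
    refine (card_image_le_card_image _ _ (fun w => flatClosure G (insert w R)) hinj).trans
      (card_le_card (image_subset_image fun w hw => ?_))
    rw [mem_sdiff] at hw ⊢
    exact ⟨hYZ hw.1, hnotR w hw.1 hw.2⟩
  set p := ((Y \ X').image fun w => flatClosure G (insert w X')).card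
  set q := ((Z \ R).image fun w => flatClosure G (insert w R)).card
  have hP' : p * flatGap G X' = flatGap G X' + flatGap G X := by omega
  have hQ' : q * flatGap G X = flatGap G X + flatGap G Y := by omega
  nlinarith [Nat.mul_le_mul_right (flatGap G X) hle]

end Cfsg.Agent.H80
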