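import Cfsg.Agent.H80.Flats
import Cfsg.Agent.S3707
import Cfsg.Agent.S0711

/-!
A primitive permutation group with a Jordan set of more than one and fewer than half of the points
contains the alternating group.
-/

open Equiv Finset MulAction

namespace Cfsg.Agent.H80

universe u

variable {α : Type*} [Fintype α] [DecidableEq α] {G : Subgroup (Perm α)}

omit [Fintype α] [DecidableEq α] in
/-- A `(k + 1)`-transitive group has every set of `k` points as a Jordan complement. -/
theorem jordanComplement_of_isMultiplyPretransitive {k : ℕ}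
    (h : IsMultiplyPretransitive G α (k + 1)) {S : Finset α} (hS : S.card = k) :
    IsJordanComplement G S := by
  intro x hx y hy
  let e : Fin k ↪ α := (S.equivFinOfCardEq hS).symm.toEmbedding.trans (Function.Embedding.subtype _)
  have he : ∀ i, e i ∈ S := fun i => ((S.equivFinOfCardEq hS).symm i).2
  have hinj : ∀ z, z ∉ S → Function.Injective (Fin.cons z e : Fin (k + 1) → α) := fun z hz =>
    Fin.cons_injective_iff.2 ⟨fun ⟨i, hi⟩ => hz (hi ▸ he i), e.injective⟩
  obtain ⟨g, hg⟩ := h.exists_smul_eq (⟨_, hinj x hx⟩ : Fin (k + 1) ↪ α) ⟨_, hinj y hy⟩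
  refine ⟨g.1, g.2, fun z hz => ?_, ?_⟩
  · have h1 := congrArg (fun f : Fin (k + 1) ↪ α => f (S.equivFinOfCardEq hS ⟨z, hz⟩).succ) hg
    have h2 : e (S.equivFinOfCardEq hS ⟨z, hz⟩) = z := by simp [e]
    simp only [Function.Embedding.smul_apply, Function.Embedding.coeFn_mk, Fin.cons_succ, h2] at h1
    exact h1
  · have h1 := congrArg (fun f : Fin (k + 1) ↪ α => f 0) hg
    simp only [Function.Embedding.smul_apply, Function.Embedding.coeFn_mk, Fin.cons_zero] at h1
    exact h1

omit [Fintype α] [DecidableEq α] in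
/-- If all sets of fewer than `k` points are Jordan complements, the group is `k`-transitive. -/
theorem isMultiplyPretransitive_of_jordanComplement :
    ∀ k : ℕ, (∀ S : Finset α, S.card < k → IsJordanComplement G S) →
      IsMultiplyPretransitive G α k
  | 0, _ => is_zero_pretransitive
  | k + 1, h => by
    have ih := isMultiplyPretransitive_of_jordanComplement k fun S hS => h S (by omega)
    refine ⟨fun x y => ?_⟩
    obtain ⟨g, hg⟩ := ih.exists_smul_eq (Fin.castSuccEmb.trans x) (Fin.castSuccEmb.trans y)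
    have hg' : ∀ i : Fin k, g • x i.castSucc = y i.castSucc := fun i =>
      congrArg (fun f : Fin k ↪ α => f i) hg
    set S : Finset α := univ.map (Fin.castSuccEmb.trans y) with hS
    have hx : g.1 (x (Fin.last k)) ∉ S := by
      simp only [hS, Finset.mem_map, Finset.mem_univ, true_and, not_exists]
      intro i hi
      have h1 := g.1.injective ((hg' i).trans hi)
      exact (Fin.castSucc_lt_last i).ne (x.injective h1)
    have hy : y (Fin.last k) ∉ S := by
      simp only [hS, Finset.mem_map, Finset.mem_univ, true_and, not_exists]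
      intro i hi
      exact (Fin.castSucc_lt_last i).ne (y.injective hi)
    obtain ⟨f, hf, hfix, hfx⟩ := h S (by simp [hS]) _ hx _ hy
    refine ⟨⟨f, hf⟩ * g, Function.Embedding.ext fun i => ?_⟩
    induction i using Fin.lastCases with
    | last => exact hfx
    | cast i =>
      show f (g • x i.castSucc) = y i.castSucc
      rw [hg' i]
      exact hfix _ (mem_map_of_mem (Fin.castSuccEmb.trans y) (mem_univ i))

omit [Fintype α] in
/-- In a `k`-transitive group a set of `k` points can be moved onto any other. -/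
theorem exists_image_eq_of_isMultiplyPretransitive {k : ℕ}
    (h : IsMultiplyPretransitive G α k) {S T : Finset α} (hS : S.card = k) (hT : T.card = k) :
    ∃ g ∈ G, S.image g = T := by
  obtain ⟨g, hg⟩ := h.exists_smul_eq
    ((S.equivFinOfCardEq hS).symm.toEmbedding.trans (Function.Embedding.subtype _))
    ((T.equivFinOfCardEq hT).symm.toEmbedding.trans (Function.Embedding.subtype _))
  refine ⟨g.1, g.2, eq_of_subset_of_card_le (fun z hz => ?_) ?_⟩
  · obtain ⟨w, hw, rfl⟩ := mem_image.1 hz
    have h1 := congrArg (fun f : Fin k ↪ α => f (S.equivFinOfCardEq hS ⟨w, hw⟩)) hg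
    simp only [Function.Embedding.smul_apply, Function.Embedding.trans_apply,
      Equiv.coe_toEmbedding, Equiv.symm_apply_apply, Function.Embedding.subtype_apply] at h1
    rw [show g.1 w = _ from h1]
    exact Subtype.prop _
  · rw [card_image_of_injective _ g.1.injective, hS, hT]

/-- Counting the subsets of a flat by their least flats. -/
theorem choose_dvd_choose_of_flats {Z : Finset α} (hZ : IsFlat G Z) {w v j : ℕ}
    (hw : ∀ S : Finset α, S.card = v + j → (flatClosure G S).card = w) (hv : v ≤ Z.card) (h2 : 2 ≤ v + j) :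
    (w - v).choose j ∣ (Z.card - v).choose j := by
  classical
  obtain ⟨A, hAZ, hA⟩ := exists_subset_card_eq hv
  rw [← hA, ← card_sdiff_of_subset hAZ, ← card_powersetCard,
    card_eq_sum_card_fiberwise (f := fun J => flatClosure G (A ∪ J))
      (t := ((Z \ A).powersetCard j).image fun J => flatClosure G (A ∪ J))
      (fun J hJ => mem_image_of_mem _ hJ)]
  refine dvd_sum fun W hW => dvd_of_eq ?_
  obtain ⟨J, hJ, rfl⟩ := mem_image.1 hW
  have hcard : ∀ {K : Finset α}, K ∈ (Z \ A).powersetCard j → (A ∪ K).card = v + j := by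
    intro K hK
    rw [mem_powersetCard] at hK
    rw [card_union_of_disjoint (disjoint_sdiff.mono_right hK.1), hA, hK.2]
  have hfib : ((Z \ A).powersetCard j).filter
      (fun K => flatClosure G (A ∪ K) = flatClosure G (A ∪ J)) =
      ((flatClosure G (A ∪ J)) \ A).powersetCard j := by
    ext K
    simp only [mem_filter, mem_powersetCard]
    constructor
    · rintro ⟨⟨hKZ, hKj⟩, hK⟩
      refine ⟨fun x hx => mem_sdiff.2 ⟨?_, (mem_sdiff.1 (hKZ hx)).2⟩, hKj⟩
      exact hK ▸ subset_flatClosure _ (mem_union_right _ hx)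
    · rintro ⟨hKW, hKj⟩
      have hWZ : flatClosure G (A ∪ J) ⊆ Z := flatClosure_subset hZ
        (union_subset hAZ ((mem_powersetCard.1 hJ).1.trans sdiff_subset))
      have hKZ : K ⊆ Z \ A := fun x hx => mem_sdiff.2
        ⟨hWZ (mem_sdiff.1 (hKW hx)).1, (mem_sdiff.1 (hKW hx)).2⟩
      refine ⟨⟨hKZ, hKj⟩, ?_⟩
      refine eq_of_subset_of_card_le (flatClosure_subset
          (isFlat_flatClosure (by rw [hcard hJ]; exact h2)) (union_subset ?_ ?_)) ?_
      · exact subset_union_left.trans (subset_flatClosure _)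
      · exact hKW.trans sdiff_subset
      · rw [hw _ (hcard hJ), hw _ (hcard (mem_powersetCard.2 ⟨hKZ, hKj⟩))]
  rw [hfib, card_powersetCard, card_sdiff_of_subset
    (subset_union_left.trans (subset_flatClosure _)), hw _ (hcard hJ), hA]

/-- The core: `2 * t + 1` points, `4`-transitive, a Jordan set of `t` points. -/
theorem alternating_le_of_half_jordan {t : ℕ} (hn : Fintype.card α = 2 * t + 1) (ht : 2 ≤ t)
    (h4 : IsMultiplyPretransitive G α 4) (Γ : Finset α) (hΓ : Γ.card = t)
    (hJ : IsJordanComplement G Γᶜ) : alternatingGroup α ≤ G := by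
  classical
  have hF : IsFlat G Γᶜ := Or.inr ⟨hJ, by rw [card_compl, hΓ, hn]; omega⟩
  have hflat_small : ∀ S : Finset α, S.card ≤ 3 → IsFlat G S := fun S hS =>
    Or.inr ⟨jordanComplement_of_isMultiplyPretransitive
      (isMultiplyPretransitive_of_le (n := 4) (by omega) (by
        rw [Nat.card_eq_fintype_card, hn]; omega)) rfl, by omega⟩
  have hex : ∃ c, ∃ S : Finset α, S.card = c ∧ ¬ IsFlat G S := by
    obtain ⟨S, hS⟩ := exists_subset_card_eq (s := (univ : Finset α)) (n := t + 2)
      (by rw [card_univ, hn]; omega)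
    refine ⟨t + 2, S, hS.2, ?_⟩
    rintro (rfl | ⟨-, h⟩)
    · rw [card_univ, hn] at hS; omega
    · rw [hn, hS.2] at h; omega
  obtain ⟨S₀, hS₀, hS₀'⟩ := Nat.find_spec hex
  have hmin : ∀ S : Finset α, S.card < Nat.find hex → IsFlat G S := fun S hS =>
    by_contra fun h => Nat.find_min hex hS ⟨S, rfl, h⟩
  obtain ⟨m, hm⟩ : ∃ m, Nat.find hex = m + 1 := ⟨Nat.find hex - 1, by
    have : 3 < Nat.find hex := by
      by_contra h; exact hS₀' (hflat_small S₀ (by omega))
    omega⟩
  have hm3 : 3 ≤ m := by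
    by_contra h; exact hS₀' (hflat_small S₀ (by omega))
  have hmn : m + 1 ≤ Fintype.card α := by rw [← hm, ← hS₀]; exact card_le_univ S₀
  have htrans : IsMultiplyPretransitive G α (m + 1) :=
    isMultiplyPretransitive_of_jordanComplement _ fun S hS => by
      rcases hmin S (hm ▸ hS) with rfl | h
      · rw [card_univ] at hS; omega
      · exact h.1
  by_cases hbig : t < 2 * m
  · obtain ⟨x, hx, y, hy, hxy⟩ := one_lt_card.1 (by omega : 1 < Γ.card)
    obtain ⟨g, hg, hfix, hgx⟩ := hJ x (by simpa using hx) y (by simpa using hy)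
    refine (Cfsg.Agent.S0711.result G (k := m + 1) (by omega) hmn htrans g hg ?_ ?_).2
    · rintro rfl; exact hxy hgx
    · have : g.support ⊆ Γ := fun z hz => by
        by_contra h
        exact Perm.mem_support.1 hz (hfix z (by simpa using h))
      have := card_le_card this
      omega
  exfalso
  push Not at hbig
  have hnonflat : ∀ S : Finset α, S.card = m + 1 → ¬ IsFlat G S := by
    intro S hS hSf
    obtain ⟨g, hg, hgS⟩ := exists_image_eq_of_isMultiplyPretransitive htrans hS (hS₀.trans hm)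
    exact hS₀' (hgS ▸ hSf.image hg)
  have htrans' : IsMultiplyPretransitive G α m :=
    isMultiplyPretransitive_of_le (n := m + 1) (by omega) (by
      rw [Nat.card_eq_fintype_card]; omega)
  -- the gap of a set of `m` points
  have hFc : Γᶜ.card = t + 1 := by rw [card_compl, hΓ, hn]; omega
  obtain ⟨X₀, hX₀F, hX₀⟩ := exists_subset_card_eq (s := Γᶜ) (n := m) (by omega)
  have hmflat : ∀ X : Finset α, X.card ≤ m → IsFlat G X := fun X hX => hmin X (by omega)
  have hgap : ∀ X : Finset α, X.card = m → flatGap G X = flatGap G X₀ := by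
    intro X hX
    obtain ⟨g, hg, hgX⟩ := exists_image_eq_of_isMultiplyPretransitive htrans' hX₀ hX
    rw [← hgX, flatGap_image (hmflat X₀ hX₀.le) (card_pos.1 (by omega)) hg]
  set d₁ := flatGap G X₀ with hd₁
  have hcl : ∀ S : Finset α, S.card = m + 1 → (flatClosure G S).card = m + d₁ := by
    intro S hS
    obtain ⟨x, hx⟩ := card_pos.1 (by omega : 0 < S.card)
    have hc : (S.erase x).card = m := by rw [card_erase_of_mem hx]; omega
    have h1 := (card_cover (hmflat _ hc.le) (card_pos.1 (by omega))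
      (notMem_erase x S)).1
    rwa [insert_erase hx, hc, hgap _ hc] at h1
  obtain ⟨x, hxF, hxX⟩ : ∃ x ∈ Γᶜ, x ∉ X₀ := exists_mem_notMem_of_card_lt_card (by omega)
  set Y₁ := flatClosure G (insert x X₀) with hY₁
  have hX₀ne : X₀.Nonempty := card_pos.1 (by omega)
  have hc₁ : (insert x X₀).card = m + 1 := by rw [card_insert_of_notMem hxX, hX₀]
  have hd₁2 : 2 ≤ d₁ := by
    by_contra h
    refine hnonflat _ hc₁ ?_
    have h2 : Y₁.card ≤ (insert x X₀).card := by rw [hY₁, hcl _ hc₁, hc₁]; omega
    rw [eq_of_subset_of_card_le (subset_flatClosure _) h2]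
    exact isFlat_flatClosure (by omega)
  have hY₁f : IsFlat G Y₁ := isFlat_flatClosure (by omega)
  have hY₁F : Y₁ ⊆ Γᶜ := flatClosure_subset hF (insert_subset hxF hX₀F)
  have hY₁ne : Y₁.Nonempty := card_pos.1 (by rw [hY₁, hcl _ hc₁]; omega)
  have hout : ∀ Y : Finset α, Y ⊆ Γᶜ → ∃ z, z ∉ Y := fun Y hY => by
    obtain ⟨z, hz⟩ := card_pos.1 (by omega : 0 < Γ.card)
    exact ⟨z, fun h => by simpa [hz] using hY h⟩
  obtain ⟨z, hz⟩ := hout Y₁ hY₁F
  set d₂ := flatGap G Y₁ with hd₂
  have hdvd : d₁ ∣ d₂ := flatGap_dvd (hmflat _ hX₀.le) hX₀ne hxX hz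
  have hsq : d₁ * d₁ ≤ d₂ := by
    obtain ⟨w, hw⟩ := hX₀ne
    have hc : (X₀.erase w).card = m - 1 := by rw [card_erase_of_mem hw, hX₀]
    have hfl : IsFlat G (X₀.erase w) := hmflat _ (by omega)
    have hne : (X₀.erase w).Nonempty := card_pos.1 (by omega)
    have hcle : flatClosure G (insert w (X₀.erase w)) = X₀ := by
      rw [insert_erase hw]; exact flatClosure_eq_self (hmflat _ hX₀.le)
    have h1 : flatGap G (X₀.erase w) = 1 := by
      have := (card_cover hfl hne (notMem_erase w X₀)).1
      rw [hcle, hc, hX₀] at this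
      omega
    have h2 := flatGap_sq_le hfl hne (notMem_erase w X₀) (y := x) (by rw [hcle]; exact hxX)
      (z := z) (by rw [hcle]; exact hz)
    rwa [hcle, h1, mul_one] at h2
  -- climb to the flat of `t + 1` points
  have hgapF : flatGap G Γᶜ = t := by
    obtain ⟨u, hu⟩ := hout Γᶜ subset_rfl
    have hne : Γᶜ.Nonempty := card_pos.1 (by omega)
    have h1 := card_cover hF hne hu
    rcases isFlat_flatClosure (G := G) (two_le_card_insert hne hu) with h | ⟨-, h⟩
    · rw [h, card_univ, hn, hFc] at h1; omega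
    · rw [h1.1, hFc, hn] at h; omega
  have climb : ∀ k, ∀ X : Finset α, ∀ y, IsFlat G X → X.Nonempty → y ∉ X →
      flatClosure G (insert y X) ⊆ Γᶜ → t + 1 - (flatClosure G (insert y X)).card = k →
      X.card + 1 ≤ m + flatGap G X →
      2 * flatGap G X ≤ flatGap G (flatClosure G (insert y X)) →
      d₂ * flatGap G X ≤ flatGap G (flatClosure G (insert y X)) * d₁ →
      ∃ δ, δ ∣ t ∧ t + 2 ≤ m + 2 * δ ∧ d₂ * δ ≤ t * d₁ := by
    intro k
    induction k using Nat.strong_induction_on with
    | _ k ih =>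
    intro X y hX hne hy hYF hk ha hb hc
    set Y := flatClosure G (insert y X) with hY
    obtain ⟨hYc, hδ⟩ := card_cover hX hne hy
    have hYf : IsFlat G Y := isFlat_flatClosure (two_le_card_insert hne hy)
    have hYne : Y.Nonempty := hne.mono ((subset_insert y X).trans (subset_flatClosure _))
    obtain ⟨u, hu⟩ := hout Y hYF
    by_cases hlt : Y.card < t + 1
    · obtain ⟨z', hz'F, hz'Y⟩ : ∃ z ∈ Γᶜ, z ∉ Y := exists_mem_notMem_of_card_lt_card (by omega)
      have hY'F : flatClosure G (insert z' Y) ⊆ Γᶜ :=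
        flatClosure_subset hF (insert_subset hz'F hYF)
      obtain ⟨w, hw⟩ := hout _ hY'F
      have hsq' := flatGap_sq_le hX hne hy hz'Y hw
      obtain ⟨hY'c, -⟩ := card_cover hYf hYne hz'Y
      have hY'le := card_le_card hY'F
      refine ih _ ?_ Y z' hYf hYne hz'Y hY'F rfl ?_ ?_ ?_
      · rw [hFc] at hY'le; omega
      · (rw [← hY] at hYc; omega)
      · refine Nat.le_of_mul_le_mul_right ?_ hδ
        calc _ = flatGap G Y * (2 * flatGap G X) := by ring
          _ ≤ flatGap G Y * flatGap G Y := Nat.mul_le_mul_left _ hb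
          _ ≤ _ := hsq'
      · refine Nat.le_of_mul_le_mul_right ?_ hδ
        calc _ = flatGap G Y * (d₂ * flatGap G X) := by ring
          _ ≤ flatGap G Y * (flatGap G Y * d₁) := Nat.mul_le_mul_left _ hc
          _ = flatGap G Y * flatGap G Y * d₁ := by ring
          _ ≤ flatGap G (flatClosure G (insert z' Y)) * flatGap G X * d₁ :=
            Nat.mul_le_mul_right _ hsq'
          _ = _ := by ring
    · have hYeq : Y = Γᶜ := eq_of_subset_of_card_le hYF (by omega)
      refine ⟨flatGap G X, ?_, ?_, ?_⟩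
      · have := flatGap_dvd hX hne hy hu
        rwa [← hY, hYeq, hgapF] at this
      · rw [← hY, hYeq, hFc] at hYc; omega
      · rwa [hYeq, hgapF] at hc
  have hb₁ : 2 * d₁ ≤ d₂ := (Nat.mul_le_mul_right d₁ hd₁2).trans hsq
  obtain ⟨δ, -, hδ1, hδ2⟩ := climb _ X₀ x (hmflat _ hX₀.le) hX₀ne hxX hY₁F rfl
    (by omega) hb₁ le_rfl
  obtain ⟨q, hq⟩ := hdvd
  have hq1 : d₁ ≤ q := Nat.le_of_mul_le_mul_left (hq ▸ hsq) (by omega)
  have hq2 : q * δ ≤ t := by
    refine Nat.le_of_mul_le_mul_left ?_ (by omega : 0 < d₁)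
    calc d₁ * (q * δ) = d₂ * δ := by rw [hq]; ring
      _ ≤ t * d₁ := hδ2
      _ = d₁ * t := mul_comm _ _
  have hq3 : q ≤ 3 := by
    by_contra h
    have : 4 * δ ≤ q * δ := Nat.mul_le_mul_right δ (by omega)
    omega
  have hZf : IsFlat G (flatClosure G (insert z Y₁)) :=
    isFlat_flatClosure (two_le_card_insert hY₁ne hz)
  have hZc : (flatClosure G (insert z Y₁)).card = m + d₁ + d₂ := by
    rw [(card_cover hY₁f hY₁ne hz).1, hY₁, hcl _ hc₁]
  have count : ∀ j, j ≤ m + 1 →
      (d₁ + j - 1).choose j ∣ (d₁ + d₂ + j - 1).choose j := by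
    intro j hj
    have h := choose_dvd_choose_of_flats hZf (w := m + d₁) (v := m + 1 - j) (j := j)
      (fun S hS => hcl S (by omega)) (by omega) (by omega)
    rwa [hZc, show m + d₁ - (m + 1 - j) = d₁ + j - 1 by omega,
      show m + d₁ + d₂ - (m + 1 - j) = d₁ + d₂ + j - 1 by omega] at h
  interval_cases q
  · omega
  · omega
  · have h : d₁ = 2 := by omega
    have := count 4 (by omega)
    rw [hq, h] at this
    norm_num [Nat.choose] at this
  · rcases (by omega : d₁ = 2 ∨ d₁ = 3) with h | h
    · have := count 6 (by omega)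
      rw [hq, h] at this
      norm_num [Nat.choose] at this
    · have := count 3 (by omega)
      rw [hq, h] at this
      norm_num [Nat.choose] at this

omit [Fintype α] in
/-- The point stabiliser acts faithfully on the other points. -/
theorem faithfulSMul_ofStabilizer (a : α) :
    FaithfulSMul (stabilizer G a) (SubMulAction.ofStabilizer G a) where
  eq_of_smul_eq_smul {g h} hgh := by
    refine Subtype.ext (Subtype.ext (Equiv.ext fun x => ?_))
    by_cases hx : x = a
    · subst hx; exact (g.2 : g.1 • x = x).trans (h.2 : h.1 • x = x).symm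
    · exact congrArg Subtype.val (hgh ⟨x, hx⟩)

/-- A primitive group with a Jordan set of more than one and fewer than half the points
contains the alternating group. -/
theorem alternatingGroup_le_of_jordan_lt_half :
    ∀ (n : ℕ) {β : Type u} [Fintype β] [DecidableEq β] (H : Subgroup (Perm β)),
      Fintype.card β = n → IsPreprimitive H β → ∀ Γ : Finset β, 2 ≤ Γ.card → 2 * Γ.card < n →
      IsJordanComplement H Γᶜ → alternatingGroup β ≤ H := by
  intro n
  induction n using Nat.strong_induction_on with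
  | _ n ih =>
  intro β _ _ H hn hprim Γ h2 hlt hJ
  classical
  have hJ' : ∀ x ∈ Γ, ∀ y ∈ Γ, ∃ g : H, (∀ z ∉ Γ, g • z = z) ∧ g • x = y := by
    intro x hx y hy
    obtain ⟨g, hg, hfix, hgx⟩ := hJ x (by simpa using hx) y (by simpa using hy)
    exact ⟨⟨g, hg⟩, fun z hz => hfix z (by simpa using hz), hgx⟩
  have h3 : IsMultiplyPretransitive H β 3 :=
    Cfsg.Agent.S3707.result hprim (↑Γ : Set β) (by rw [Set.ncard_coe_finset]; omega)
      (by rw [Set.ncard_coe_finset, Nat.card_eq_fintype_card]; omega) hJ'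
  haveI : IsPretransitive H β := hprim.toIsPretransitive
  obtain ⟨a, ha⟩ : ∃ a, a ∉ Γ := by
    obtain ⟨a, ha⟩ := card_pos.1 (by rw [card_compl, hn]; omega : 0 < Γᶜ.card)
    exact ⟨a, by simpa using ha⟩
  let Ω' := SubMulAction.ofStabilizer H a
  haveI : Fintype Ω' := Fintype.ofFinite _
  haveI := faithfulSMul_ofStabilizer (G := H) a
  have hn' : Fintype.card Ω' = n - 1 := by
    rw [← Nat.card_eq_fintype_card, SubMulAction.nat_card_ofStabilizer_eq,
      Nat.card_eq_fintype_card, hn]
  have hprim' : IsPreprimitive (stabilizer H a) Ω' := isPreprimitive_of_is_two_pretransitive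
    ((SubMulAction.ofStabilizer.isMultiplyPretransitive (n := 2) (a := a)).1 h3)
  let Γ' : Finset Ω' := univ.filter fun z : Ω' => z.1 ∈ Γ
  have hΓ' : Γ'.card = Γ.card := by
    rw [← card_image_of_injective Γ' Subtype.val_injective]
    congr 1
    ext z
    simp only [Γ', mem_image, mem_filter, mem_univ, true_and]
    exact ⟨by rintro ⟨w, hw, rfl⟩; exact hw, fun hz => ⟨⟨z, fun h => ha (h ▸ hz)⟩, hz, rfl⟩⟩
  have hJ'' : ∀ x ∈ (↑Γ' : Set Ω'), ∀ y ∈ (↑Γ' : Set Ω'),
      ∃ g : stabilizer H a, (∀ z ∉ (↑Γ' : Set Ω'), g • z = z) ∧ g • x = y := by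
    intro x hx y hy
    simp only [Γ', coe_filter, mem_univ, true_and, Set.mem_setOf_eq] at hx hy
    obtain ⟨g, hfix, hgx⟩ := hJ' x.1 hx y.1 hy
    refine ⟨⟨g, hfix a ha⟩, fun z hz => Subtype.ext (hfix z.1 ?_), Subtype.ext hgx⟩
    simpa [Γ'] using hz
  by_cases hk : 2 * Γ.card + 1 = n
  · have h3' : IsMultiplyPretransitive (stabilizer H a) Ω' 3 :=
      Cfsg.Agent.S3707.result hprim' (↑Γ' : Set Ω') (by rw [Set.ncard_coe_finset, hΓ']; omega)
        (by rw [Set.ncard_coe_finset, hΓ', Nat.card_eq_fintype_card, hn']; omega) hJ''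
    exact alternating_le_of_half_jordan (hn.trans hk.symm) h2
      ((SubMulAction.ofStabilizer.isMultiplyPretransitive (n := 3) (a := a)).2 h3') Γ rfl hJ
  let φ : stabilizer H a →* Perm Ω' := MulAction.toPermHom (stabilizer H a) Ω'
  have hprim'' : IsPreprimitive φ.range Ω' := by
    let f : Ω' →ₑ[φ.rangeRestrict] Ω' := { toFun := id, map_smul' := fun _ _ => rfl }
    exact IsPreprimitive.of_surjective (f := f) (fun x => ⟨x, rfl⟩)
  have hle := ih (n - 1) (by omega) φ.range hn' hprim'' Γ' (by omega) (by omega) (by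
    intro x hx y hy
    obtain ⟨g, hfix, hgx⟩ := hJ'' x (by simpa using hx) y (by simpa using hy)
    exact ⟨φ g, ⟨g, rfl⟩, fun z hz => hfix z (by simpa using hz), hgx⟩)
  obtain ⟨x, y, z, -, -, -, hxy, hxz, hyz⟩ :=
    Finset.two_lt_card_iff.1 (by rw [card_univ, hn']; omega : 2 < (univ : Finset Ω').card)
  have hτ : Equiv.swap x y * Equiv.swap x z ∈ alternatingGroup Ω' := by
    simp [Equiv.Perm.mem_alternatingGroup, hxy, hxz]
  obtain ⟨g, hg⟩ := hle hτ
  refine Equiv.Perm.alternatingGroup_le_of_isPreprimitive_of_isThreeCycle_mem hprim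
    (g := Equiv.swap x.1 y.1 * Equiv.swap x.1 z.1) (Equiv.Perm.isThreeCycle_swap_mul_swap_same
      (fun h => hxy (Subtype.ext h)) (fun h => hxz (Subtype.ext h))
      (fun h => hyz (Subtype.ext h))) ?_
  convert g.1.2 using 1
  ext w
  by_cases hw : w = a
  · subst hw
    rw [Perm.mul_apply, Equiv.swap_apply_of_ne_of_ne (Ne.symm x.2) (Ne.symm z.2),
      Equiv.swap_apply_of_ne_of_ne (Ne.symm x.2) (Ne.symm y.2)]
    exact (g.2 : g.1 • w = w).symm
  · have h1 := congrArg Subtype.val (congrArg (fun p : Perm Ω' => p ⟨w, hw⟩) hg)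
    rw [Perm.mul_apply, ← Subtype.val_injective.swap_apply x y,
      ← Subtype.val_injective.swap_apply x z] at *
    exact h1.symm

end Cfsg.Agent.H80
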