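import Cfsg.Agent.H35.MaxClass
import Cfsg.Agent.H93.Essential

/-!
Orders of the first two centres of a group of maximal class, and index of the centralizer of the second centre.
-/
set_option autoImplicit false

namespace Cfsg.Agent.H80

open Subgroup
open scoped commutatorElement

variable {G : Type*} [Group G] [Finite G] {p : ℕ} [hp : Fact p.Prime]

theorem class_eq_of_lcs_ne_bot (n : ℕ) (hG : Nat.card G = p ^ n) (hn : 2 ≤ n)
    (hne : (⊤ : Subgroup G).lowerCentralSeries (n - 2) ≠ ⊥) : Group.nilpotencyClass G = n - 1 := by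
  have : Group.IsNilpotent G := (IsPGroup.of_card hG).isNilpotent
  refine le_antisymm (H24.class_le_pred G p n hG hn) ?_
  by_contra h
  exact hne (Subgroup.lowerCentralSeries_eq_bot_iff_nilpotencyClass_le.2 (by omega))

/-- The centre of a group of maximal class has order `p`. -/
theorem card_center_of_max_class (n : ℕ) (hG : Nat.card G = p ^ n)
    (hcl : Group.nilpotencyClass G = n - 1) (hn : 3 ≤ n) : Nat.card (center G) = p := by
  have hP : IsPGroup p G := IsPGroup.of_card hG
  have : Group.IsNilpotent G := hP.isNilpotent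
  haveI : Nontrivial G := by
    rw [← Finite.one_lt_card_iff_nontrivial, hG]
    exact Nat.one_lt_pow (by omega) hp.out.one_lt
  obtain ⟨a, ha⟩ := (hP.to_subgroup (center G)).exists_card_eq
  have hidx : (center G).index = p ^ (n - a) := by
    have h := (center G).card_mul_index
    have ha' : a ≤ n := by
      have := card_subgroup_dvd_card (center G)
      rw [ha, hG] at this
      exact (Nat.pow_dvd_pow_iff_le_right hp.out.one_lt).1 this
    rw [ha, hG, show p ^ n = p ^ a * p ^ (n - a) by rw [← pow_add]; congr 1; omega] at h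
    exact Nat.eq_of_mul_eq_mul_left (pow_pos hp.out.pos _) h
  have hr2 : 2 ≤ n - a := by
    by_contra h
    haveI : IsCyclic (G ⧸ center G) := H24.isCyclic_of_card_pow_le (p := p) (k := n - a) hidx (by omega)
    have hab := H24.isMulCommutative_of_cyclic_quotient (le_refl (center G))
    have := H24.class_le_one_of_comm hab
    omega
  have ha1 : 1 ≤ a := by
    by_contra h
    haveI := hP.center_nontrivial
    have h2 := Finite.one_lt_card (α := center G)
    rw [ha, show a = 0 by omega, pow_zero] at h2
    omega
  have hle : a ≤ 1 := by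
    by_contra hlt
    have hZ := H35.eq_lowerCentralSeries_of_max_class n hG hcl hn (center G) (n - a) hr2 hidx
    have hbot : (⊤ : Subgroup G).lowerCentralSeries (n - a) = ⊥ := by
      rw [show n - a = n - a - 1 + 1 by omega, Subgroup.lowerCentralSeries_succ, ← hZ, eq_bot_iff, commutator_le]
      intro z hz g _
      exact commutatorElement_eq_one_iff_mul_comm.2 (mem_center_iff.1 hz g).symm
    have := Subgroup.lowerCentralSeries_eq_bot_iff_nilpotencyClass_le.1 hbot
    omega
  rw [ha, show a = 1 by omega, pow_one]

/-- The second centre of a group of maximal class has order `p ^ 2`. -/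
theorem card_center_two_of_max_class (n : ℕ) (hG : Nat.card G = p ^ n)
    (hcl : Group.nilpotencyClass G = n - 1) (hn : 4 ≤ n) : Nat.card (Subgroup.upperCentralSeries G 2) = p ^ 2 := by
  have hP : IsPGroup p G := IsPGroup.of_card hG
  have : Group.IsNilpotent G := hP.isNilpotent
  obtain ⟨b, hb⟩ := (hP.to_subgroup (Subgroup.upperCentralSeries G 2)).exists_card_eq
  have hb' : b ≤ n := by
    have := card_subgroup_dvd_card (Subgroup.upperCentralSeries G 2)
    rw [hb, hG] at this
    exact (Nat.pow_dvd_pow_iff_le_right hp.out.one_lt).1 this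
  have hidx : (Subgroup.upperCentralSeries G 2).index = p ^ (n - b) := by
    have h := (Subgroup.upperCentralSeries G 2).card_mul_index
    rw [hb, hG, show p ^ n = p ^ b * p ^ (n - b) by rw [← pow_add]; congr 1; omega] at h
    exact Nat.eq_of_mul_eq_mul_left (pow_pos hp.out.pos _) h
  have hmem : ∀ {x : G}, x ∈ Subgroup.upperCentralSeries G 2 ↔ ∀ y, ⁅x, y⁆ ∈ center G := by
    intro x
    rw [Subgroup.mem_upperCentralSeries_succ_iff, Subgroup.upperCentralSeries_one]
  have hZc := card_center_of_max_class n hG hcl (by omega)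
  have hne : Subgroup.upperCentralSeries G 2 ≠ ⊤ := fun h => by
    have := Subgroup.upperCentralSeries_eq_top_iff_nilpotencyClass_le.1 h
    omega
  have hr2 : 2 ≤ n - b := by
    by_contra h
    have hq : Nat.card (G ⧸ Subgroup.upperCentralSeries G 2) = p ^ (n - b) := hidx
    haveI : IsCyclic (G ⧸ Subgroup.upperCentralSeries G 2) := H24.isCyclic_of_card_pow_le (p := p) hq (by omega)
    obtain ⟨g, hg⟩ := IsCyclic.exists_generator (α := G ⧸ Subgroup.upperCentralSeries G 2)
    obtain ⟨x, rfl⟩ := QuotientGroup.mk_surjective g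
    refine hne ((Subgroup.eq_top_iff' _).2 fun y => ?_)
    have hx : ∀ z, z ∈ center G → ∀ w, ⁅w, z⁆ = 1 := fun z hz w =>
      commutatorElement_eq_one_iff_mul_comm.2 (mem_center_iff.1 hz w)
    let q := QuotientGroup.mk' (center G)
    have hcen : ∀ u, u ∈ Subgroup.upperCentralSeries G 2 ↔ q u ∈ center (G ⧸ center G) := by
      intro u
      rw [hmem, mem_center_iff]
      constructor
      · intro h v
        obtain ⟨w, rfl⟩ := QuotientGroup.mk_surjective v
        refine (commutatorElement_eq_one_iff_mul_comm.1 ?_).symm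
        show ⁅q u, q w⁆ = 1
        rw [← map_commutatorElement]
        exact (QuotientGroup.eq_one_iff _).2 (h w)
      · intro h w
        refine (QuotientGroup.eq_one_iff _).1 ?_
        show q ⁅u, w⁆ = 1
        rw [map_commutatorElement]
        exact commutatorElement_eq_one_iff_mul_comm.2 (h (q w)).symm
    have hdec : ∀ w : G, ∃ u ∈ Subgroup.upperCentralSeries G 2, ∃ i : ℤ, w = x ^ i * u := by
      intro w
      obtain ⟨i, hi⟩ := mem_zpowers_iff.1 (hg (w : G ⧸ Subgroup.upperCentralSeries G 2))
      rw [← QuotientGroup.mk_zpow, QuotientGroup.eq] at hi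
      exact ⟨_, hi, i, (mul_inv_cancel_left _ _).symm⟩
    rw [hcen, mem_center_iff]
    intro v
    obtain ⟨w, rfl⟩ := QuotientGroup.mk_surjective v
    obtain ⟨u, hu, i, rfl⟩ := hdec w
    obtain ⟨u', hu', j, rfl⟩ := hdec y
    show q (x ^ i * u) * q (x ^ j * u') = q (x ^ j * u') * q (x ^ i * u)
    rw [map_mul, map_mul, map_zpow, map_zpow]
    have c1 : ∀ u ∈ Subgroup.upperCentralSeries G 2, ∀ v, Commute (q u) v := fun u hu v =>
      ((mem_center_iff.1 ((hcen u).1 hu) v)).symm
    exact (Commute.mul_left ((Commute.zpow_zpow_self _ i j).mul_right (c1 u' hu' _).symm)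
      ((c1 u hu _).mul_right (c1 u hu _))).eq
  have hU := H35.eq_lowerCentralSeries_of_max_class n hG hcl (by omega) (Subgroup.upperCentralSeries G 2) (n - b) hr2 hidx
  have hb2 : b ≤ 2 := by
    by_contra h
    have hle : (⊤ : Subgroup G).lowerCentralSeries (n - b) ≤ center G := by
      rw [show n - b = n - b - 1 + 1 by omega, Subgroup.lowerCentralSeries_succ, ← hU, commutator_le]
      exact fun z hz g _ => hmem.1 hz g
    have hc := card_le_of_le hle
    rw [hZc, H35.card_lowerCentralSeries_of_max_class n hG hcl (by omega) (n - b) (by omega) (by omega)] at hc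
    have h3 : p ^ 1 < p ^ (n - 1 - (n - b)) := Nat.pow_lt_pow_right hp.out.one_lt (by omega)
    rw [pow_one] at h3
    omega
  -- the second centre is larger than the centre
  have hgt : p < Nat.card (Subgroup.upperCentralSeries G 2) := by
    rw [← hZc, ← Subgroup.upperCentralSeries_one]
    refine lt_of_le_of_ne (card_le_of_le (Subgroup.upperCentralSeries_mono G one_le_two)) fun he => ?_
    have e := eq_of_le_of_card_ge (Subgroup.upperCentralSeries_mono G one_le_two) he.ge
    have hqP : IsPGroup p (G ⧸ center G) := hP.to_quotient _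
    haveI : Nontrivial (G ⧸ center G) := by
      rw [← Finite.one_lt_card_iff_nontrivial, ← index_eq_card]
      by_contra h
      have h2 := (center G).card_mul_index
      rw [hZc, hG] at h2
      have h4 : p ^ 1 < p ^ n := Nat.pow_lt_pow_right hp.out.one_lt (by omega)
      rw [pow_one, ← h2] at h4
      have := Nat.mul_le_mul_left p (not_lt.1 h)
      omega
    haveI := hqP.center_nontrivial
    obtain ⟨z, hz, hz1⟩ := exists_ne_one_of_nontrivial (center (G ⧸ center G))
    obtain ⟨u, rfl⟩ := QuotientGroup.mk_surjective z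
    refine hz1 ((QuotientGroup.eq_one_iff u).2 ?_)
    rw [← Subgroup.upperCentralSeries_one, e, hmem]
    intro y
    refine (QuotientGroup.eq_one_iff _).1 ?_
    show QuotientGroup.mk' (center G) ⁅u, y⁆ = 1
    rw [map_commutatorElement]
    exact commutatorElement_eq_one_iff_mul_comm.2 (mem_center_iff.1 hz _).symm
  rw [hb] at hgt ⊢
  have : 2 ≤ b := by
    by_contra h
    have h3 : p ^ b ≤ p ^ 1 := Nat.pow_le_pow_right hp.out.pos (by omega)
    rw [pow_one] at h3
    omega
  rw [show b = 2 by omega]

/-- The centralizer of the second centre has index at most `p`. -/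
theorem index_centralizer_center_two_le (n : ℕ) (hG : Nat.card G = p ^ n)
    (hcl : Group.nilpotencyClass G = n - 1) (hn : 4 ≤ n) :
    (centralizer (Subgroup.upperCentralSeries G 2 : Set G)).index ≤ p := by
  have hZc := card_center_of_max_class n hG hcl (by omega)
  have hU := card_center_two_of_max_class n hG hcl hn
  set U := Subgroup.upperCentralSeries G 2 with hUdef
  have hZU : center G ≤ U := by
    rw [← Subgroup.upperCentralSeries_one]; exact Subgroup.upperCentralSeries_mono G one_le_two
  obtain ⟨w, hw, hwZ⟩ : ∃ w ∈ U, w ∉ center G := by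
    refine SetLike.not_le_iff_exists.1 fun h => ?_
    have hle := card_le_of_le h
    rw [hU, hZc] at hle
    have : p ^ 1 < p ^ 2 := Nat.pow_lt_pow_right hp.out.one_lt (by omega)
    rw [pow_one] at this
    omega
  let f : G → center G := fun s => ⟨⁅w, s⁆, by
    have := Subgroup.mem_upperCentralSeries_succ_iff.1 hw s
    rwa [Subgroup.upperCentralSeries_one] at this⟩
  have hmul : ∀ s t, f (s * t) = f s * f t := by
    intro s t
    apply Subtype.ext
    show ⁅w, s * t⁆ = ⁅w, s⁆ * ⁅w, t⁆
    have hc := mem_center_iff.1 (f t).2 s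
    calc ⁅w, s * t⁆ = ⁅w, s⁆ * (s * ⁅w, t⁆) * s⁻¹ := by simp only [commutatorElement_def]; group
      _ = ⁅w, s⁆ * ⁅w, t⁆ := by rw [hc]; simp [mul_assoc, f]
  let φ : G →* center G := MonoidHom.mk' f hmul
  have hker : φ.ker ≤ centralizer (U : Set G) := by
    intro s hs
    rw [mem_centralizer_iff]
    intro u hu
    have h1 : ⁅w, s⁆ = 1 := congrArg Subtype.val (MonoidHom.mem_ker.1 hs)
    have hws : Commute w s := commutatorElement_eq_one_iff_commute.1 h1
    have hgen : (center G).relIndex U = p := by
      have h := ((center G).subgroupOf U).card_mul_index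
      rw [Nat.card_congr (subgroupOfEquivOfLe hZU).toEquiv, hZc, hU, pow_two] at h
      exact Nat.eq_of_mul_eq_mul_left hp.out.pos h
    haveI : ((center G).subgroupOf U).Normal := inferInstance
    have hq : Nat.card (U ⧸ (center G).subgroupOf U) = p := hgen
    obtain ⟨i, hi⟩ := mem_zpowers_iff.1 (mem_zpowers_of_prime_card
      (g := ((⟨w, hw⟩ : U) : U ⧸ (center G).subgroupOf U)) (g' := ((⟨u, hu⟩ : U) : U ⧸ (center G).subgroupOf U))
      hq (fun h => hwZ (mem_subgroupOf.1 ((QuotientGroup.eq_one_iff (⟨w, hw⟩ : U)).1 h))))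
    rw [← QuotientGroup.mk_zpow, QuotientGroup.eq, mem_subgroupOf] at hi
    have hz : (w ^ i)⁻¹ * u ∈ center G := by simpa using hi
    have hu' : u = w ^ i * ((w ^ i)⁻¹ * u) := (mul_inv_cancel_left _ _).symm
    rw [hu']
    exact (Commute.mul_left (hws.zpow_left i) (mem_center_iff.1 hz s).symm).eq
  refine (Nat.le_of_dvd (Nat.pos_of_ne_zero FiniteIndex.index_ne_zero) (index_dvd_of_le hker)).trans ?_
  rw [index_ker, ← hZc]
  exact card_le_of_le (show φ.range ≤ ⊤ from le_top) |>.trans_eq (card_top)

end Cfsg.Agent.H80
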