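import Cfsg.Agent.H96.Tate
import Cfsg.Agent.H94.PPowerIndex

/-!
Relative form of Tate's theorem for saturated fusion systems: a normal subgroup of `S` inside the
hyperfocal subgroup which covers it modulo `Φ(S)` contains it.
-/
set_option autoImplicit false

namespace Cfsg.Agent.H80

open Cfsg Cfsg.Agent.H96
open scoped commutatorElement

variable {Ω : Type*} [Group Ω] {S : Subgroup Ω} [Finite S]

attribute [local instance] Fintype.ofFinite

/-- Tate's theorem in relative form. -/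
theorem hyperfocal_le_of_le_frattini_sup {F : FusionSystem S} {p : ℕ} [Fact p.Prime] (hS : IsPGroup p S)
    (hF : F.IsSaturated p) (Qh : Subgroup S) [Qh.Normal]
    (hQh : Qh ≤ (F.hyperfocalSubgroup p).subgroupOf S)
    (hsub : (F.hyperfocalSubgroup p).subgroupOf S ≤ frattini S ⊔ Qh) :
    (F.hyperfocalSubgroup p).subgroupOf S ≤ Qh := by
  generalize hQ : (F.hyperfocalSubgroup p).subgroupOf S = Q at hQh hsub ⊢
  have hQle : (F.hyperfocalSubgroup p).subgroupOf S ≤ Q := hQ.le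
  have hQn : Q.Normal := ⟨fun y hy s => by
    rw [← hQ, Subgroup.mem_subgroupOf] at hy ⊢
    exact H94.conj_mem_hyperfocal s.2 hy⟩
  by_contra hnot
  -- a central chief factor below `Q` and above `Qh`
  let q : S →* S ⧸ Qh := QuotientGroup.mk' Qh
  have hNn : (Q.map q).Normal := hQn.map q (QuotientGroup.mk'_surjective _)
  have hqp : IsPGroup p (S ⧸ Qh) := hS.to_quotient _
  obtain ⟨j, hj⟩ := (hqp.to_subgroup (Q.map q)).exists_card_eq
  have hj0 : 1 ≤ j := Nat.one_le_iff_ne_zero.2 fun h => by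
    rw [h, pow_zero] at hj
    have h1 := (Subgroup.map_eq_bot_iff Q).1 (Subgroup.card_eq_one.1 hj)
    rw [QuotientGroup.ker_mk'] at h1
    exact hnot h1
  obtain ⟨K, hKn, hKle, hKc⟩ := H24.exists_normal_le_card hqp hj (Nat.sub_le j 1)
  generalize hQ₀ : K.comap q = Q₀
  have hQ₀n : Q₀.Normal := hQ₀ ▸ hKn.comap q
  have hQhQ₀ : Qh ≤ Q₀ := by
    intro x hx
    rw [← hQ₀, Subgroup.mem_comap, show q x = 1 from (QuotientGroup.eq_one_iff _).2 hx]
    exact K.one_mem
  have hQ₀le : Q₀ ≤ Q := by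
    intro x hx
    rw [← hQ₀, Subgroup.mem_comap] at hx
    obtain ⟨y, hy, hyx⟩ := hKle hx
    have h1 : y⁻¹ * x ∈ Q := hQh (QuotientGroup.eq.1 hyx)
    have := Q.mul_mem hy h1
    rwa [mul_inv_cancel_left] at this
  let π : S →* S ⧸ Q₀ := QuotientGroup.mk' Q₀
  generalize hZ : Q.map π = Z
  have hZn : Z.Normal := hZ ▸ hQn.map π (QuotientGroup.mk'_surjective _)
  have hZc : Nat.card Z = p := by
    rw [← hZ]
    have h1 := Subgroup.relIndex_ker (K := Q) π
    rw [QuotientGroup.ker_mk'] at h1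
    rw [← h1, ← hQ₀, Subgroup.relIndex_comap]
    have h2 := Subgroup.relIndex_mul_relIndex (⊥ : Subgroup (S ⧸ Qh)) K (Q.map q) bot_le hKle
    rw [Subgroup.relIndex_bot_left, Subgroup.relIndex_bot_left, hKc, hj,
      show p ^ j = p ^ (j - 1) * p by rw [← pow_succ]; congr 1; omega] at h2
    exact Nat.eq_of_mul_eq_mul_left (pow_pos (Fact.out : p.Prime).pos _) h2
  have hEp : IsPGroup p (S ⧸ Q₀) := hS.to_quotient _
  have hZcen : ∀ z ∈ Z, ∀ e : S ⧸ Q₀, e * z = z * e := by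
    have hne : Z ≠ ⊥ := fun h => by
      rw [h, Subgroup.card_bot] at hZc; exact (Fact.out : p.Prime).ne_one hZc.symm
    have h1 := H24.inf_center_ne_bot hEp hne
    have h2 : Z ⊓ Subgroup.center (S ⧸ Q₀) = Z := by
      apply Subgroup.eq_of_le_of_card_ge inf_le_left
      rw [hZc]
      rcases (Nat.dvd_prime Fact.out).1 (hZc ▸ Subgroup.card_dvd_of_le (inf_le_left : Z ⊓ Subgroup.center (S ⧸ Q₀) ≤ Z)) with h | h
      · exact absurd (Subgroup.card_eq_one.1 h) h1
      · exact h.ge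
    intro z hz e
    rw [← h2] at hz
    exact Subgroup.mem_center_iff.1 hz.2 e
  letI cgZ : CommGroup Z :=
    { (inferInstance : Group Z) with mul_comm := fun a b => Subtype.ext (hZcen b b.2 a) }
  have hZp : ∀ z : Z, z ^ p = 1 := fun z => by rw [← hZc]; exact pow_card_eq_one'
  obtain ⟨a, n, ha, hst, hn, hcard⟩ := exists_char_biset hS hF
  have hcT : Fintype.card (RightOrbits a) = n := by
    rw [card_pts_eq ha] at hcard
    rw [Fintype.card_eq_nat_card]
    exact Nat.eq_of_mul_eq_mul_left Nat.card_pos hcard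
  -- the labelling in `S / Q`
  let σ : S →* S ⧸ Q := QuotientGroup.mk' Q
  letI actQ : MulAction (S × S) (S ⧸ Q) :=
    { smul := fun γ y => σ γ.1 * y * (σ γ.2)⁻¹
      one_smul := fun y => show σ (1 : S × S).1 * y * (σ (1 : S × S).2)⁻¹ = y by simp
      mul_smul := fun γ δ y => show σ (γ * δ).1 * y * (σ (γ * δ).2)⁻¹ =
          σ γ.1 * (σ δ.1 * y * (σ δ.2)⁻¹) * (σ γ.2)⁻¹ by
        simp only [Prod.fst_mul, Prod.snd_mul, map_mul]; group }
  obtain ⟨ρ, hρ⟩ := exists_equivariant (X := Pts a) (Y := S ⧸ Q) (L := S × S) fun y => by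
    obtain ⟨R, θ, hθ, hR⟩ := isTw_stabilizer ha y
    obtain ⟨w, hw⟩ := exists_conj_congr hS hF Q hQle hθ
    refine ⟨σ w, fun γ hγ => ?_⟩
    have hm : γ ∈ (twist θ : Subgroup (S × S)) := hR ▸ MulAction.mem_stabilizer_iff.2 hγ
    obtain ⟨h1, h2⟩ := hm
    have h3 := QuotientGroup.eq.2 (hw ⟨γ.2, h1⟩ γ.2.2 (by rw [h2]; exact γ.1.2))
    have h4 : σ γ.1 = σ (w * γ.2 * w⁻¹) := by
      refine Eq.trans (congrArg σ (Subtype.ext h2.symm)) h3.symm
    show σ γ.1 * σ w * (σ γ.2)⁻¹ = σ w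
    rw [h4, map_mul, map_mul, map_inv]; group
  -- a lift to `S / Q₀`, equivariant on the right
  letI actE : MulAction S (S ⧸ Q₀) :=
    { smul := fun v e => e * (π v)⁻¹
      one_smul := fun e => show e * (π 1)⁻¹ = e by simp
      mul_smul := fun v w e => show e * (π (v * w))⁻¹ = e * (π w)⁻¹ * (π v)⁻¹ by simp [mul_assoc] }
  obtain ⟨ρ₀, hρ₀⟩ := exists_equivariant (X := Pull (MonoidHom.inr S S) (Pts a)) (Y := S ⧸ Q₀) (L := S)
    fun y => ⟨1, fun v hv => by
      rw [eq_one_of_right_fixed ha (x := (y : Pts a)) hv]; exact one_smul S (1 : S ⧸ Q₀)⟩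
  let η : S ⧸ Q₀ →* S ⧸ Q := QuotientGroup.map Q₀ Q (MonoidHom.id S) hQ₀le
  have hη : ∀ s, η (π s) = σ s := fun s => rfl
  have hηker : ∀ e, η e = 1 → e ∈ Z := by
    intro e he
    induction e using QuotientGroup.induction_on with
    | _ s => exact hZ ▸ ⟨s, (QuotientGroup.eq_one_iff _).1 he, rfl⟩
  have hηsurj : Function.Surjective η := fun e => by
    induction e using QuotientGroup.induction_on with | _ s => exact ⟨π s, rfl⟩
  let lft : S ⧸ Q → S ⧸ Q₀ := Function.surjInv hηsurj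
  let r : Pts a → S ⧸ Q₀ := fun y => lft (ρ y * (η (ρ₀ y))⁻¹) * ρ₀ y
  have hrR : ∀ (v : S) (y : Pts a), r ((((1 : S), v) : S × S) • y) = r y * (π v)⁻¹ := by
    intro v y
    have e0 : ρ₀ ((((1 : S), v) : S × S) • y) = ρ₀ y * (π v)⁻¹ := hρ₀ v y
    have e1 : ρ ((((1 : S), v) : S × S) • y) = ρ y * (σ v)⁻¹ := by
      rw [hρ]; show σ 1 * ρ y * (σ v)⁻¹ = _; rw [map_one, one_mul]
    simp only [r, e0, e1, map_mul, map_inv, hη]
    rw [show ρ y * (σ v)⁻¹ * (η (ρ₀ y) * (σ v)⁻¹)⁻¹ = ρ y * (η (ρ₀ y))⁻¹ by group, mul_assoc]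
  have hr : ∀ y, η (r y) = ρ y := fun y => by
    simp only [r, map_mul, lft, Function.surjInv_eq hηsurj, inv_mul_cancel_right]
  -- the defect
  have hd : ∀ (u : S) (y : Pts a), (r (((u, (1 : S)) : S × S) • y))⁻¹ * π u * r y ∈ Z := by
    intro u y
    apply hηker
    rw [map_mul, map_mul, map_inv, hr, hr, hη, hρ]
    show (σ u * ρ y * (σ 1)⁻¹)⁻¹ * σ u * ρ y = 1
    rw [map_one]; group
  let d : S → Pts a → Z := fun u y => ⟨_, hd u y⟩
  have hdR : ∀ (u v : S) (y : Pts a), d u ((((1 : S), v) : S × S) • y) = d u y := by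
    intro u v y
    apply Subtype.ext
    show (r (_ • _ • y))⁻¹ * π u * r _ = _
    rw [show ((u, (1 : S)) : S × S) • (((1 : S), v) : S × S) • y =
        (((1 : S), v) : S × S) • ((u, (1 : S)) : S × S) • y by rw [smul_smul, smul_smul]; simp,
      hrR, hrR]
    calc _ = π v * ((r (((u, (1 : S)) : S × S) • y))⁻¹ * π u * r y) * (π v)⁻¹ := by group
      _ = _ := by rw [hZcen _ (hd u y), mul_inv_cancel_right]
  let D : S →* Z := MonoidHom.mk' (fun u => ∏ t : RightOrbits a, d u (sel t)) fun u w => by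
    rw [← prod_left (c := d u) (hdR u) w, ← Finset.prod_mul_distrib]
    refine Finset.prod_congr rfl fun t _ => Subtype.ext ?_
    show (r (((u * w, (1 : S)) : S × S) • sel t))⁻¹ * π (u * w) * r (sel t) =
      ((r (((u, (1 : S)) : S × S) • ((w, (1 : S)) : S × S) • sel t))⁻¹ * π u * r (((w, (1 : S)) : S × S) • sel t)) *
        ((r (((w, (1 : S)) : S × S) • sel t))⁻¹ * π w * r (sel t))
    rw [smul_smul]
    simp only [Prod.mk_mul_mk, mul_one, map_mul]
    group
  have hDΦ : frattini S ≤ D.ker := by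
    refine H24.frattini_le_of (p := p) _ (Abelianization.commutator_subset_ker D) fun y => ?_
    rw [MonoidHom.mem_ker, map_pow, hZp]
  -- the transfer character of `Q`, invariant under the system
  let f : Q →* Z := MonoidHom.mk'
    (fun w => ((⟨π (w : S), hZ ▸ ⟨(w : S), w.2, rfl⟩⟩ : Z) ^ n)⁻¹ * D (w : S))
    fun w w' => by
      have e : (⟨π ((w * w' : Q) : S), hZ ▸ ⟨((w * w' : Q) : S), (w * w').2, rfl⟩⟩ : Z) =
          ⟨π (w : S), hZ ▸ ⟨(w : S), w.2, rfl⟩⟩ * ⟨π (w' : S), hZ ▸ ⟨(w' : S), w'.2, rfl⟩⟩ :=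
        Subtype.ext (by simp)
      show (_ ^ n)⁻¹ * D ((w : S) * (w' : S)) = _
      rw [e, mul_pow, mul_inv, map_mul]
      ac_rfl
  have hcrit : ∀ {R : Subgroup Ω} {φ : R →* Ω}, φ ∈ F.Hom R → ∀ (u : R) (hu : (u : Ω) ∈ S) (hφu : φ u ∈ S),
      ∀ (h₁ : (⟨u, hu⟩ : S) ∈ Q) (h₂ : (⟨φ u, hφu⟩ : S) ∈ Q), f ⟨_, h₂⟩ = f ⟨_, h₁⟩ := by
    intro R φ hφ u hu hφu hQu hQφu
    have hcen : ∀ (w : S), w ∈ Q → π w ∈ Z := fun w hw => hZ ▸ ⟨w, hw, rfl⟩
    have hdc : ∀ (w : S), w ∈ Q → ∀ y, π w * ((r (((w, (1 : S)) : S × S) • y))⁻¹ * r y) =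
        (r (((w, (1 : S)) : S × S) • y))⁻¹ * π w * r y := by
      intro w hw y
      rw [← mul_assoc, hZcen _ (hcen w hw) (r (((w, (1 : S)) : S × S) • y))⁻¹]
    have hc : ∀ (w : S), w ∈ Q → ∀ y, (r (((w, (1 : S)) : S × S) • y))⁻¹ * r y ∈ Z := by
      intro w hw y
      have h1 := Z.mul_mem (Z.inv_mem (hcen w hw)) (hd w y)
      rwa [← hdc w hw y, inv_mul_cancel_left] at h1
    have hprod : ∀ (w : S) (hw : w ∈ Q),
        ∏ t : RightOrbits a, (⟨_, hc w hw (sel t)⟩ : Z) = f ⟨w, hw⟩ := by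
      intro w hw
      have h2 : D w = (⟨π w, hcen w hw⟩ : Z) ^ n * ∏ t : RightOrbits a, (⟨_, hc w hw (sel t)⟩ : Z) := by
        rw [← hcT, ← Finset.card_univ, ← Finset.prod_const, ← Finset.prod_mul_distrib]
        exact Finset.prod_congr rfl fun t _ => Subtype.ext (hdc w hw (sel t)).symm
      show _ = ((⟨π w, hcen w hw⟩ : Z) ^ n)⁻¹ * D w
      rw [h2, inv_mul_cancel_left]
    obtain ⟨g₀, hg₀⟩ := exists_stable_equiv ha hst hφ
    have hgmem : (g₀ : Equiv.Perm (Pts a)) ∈ rightCentralizer a := fun v x => by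
      have h := hg₀ 1 v x S.one_mem (by rw [map_one]; exact S.one_mem)
      simp only [map_one] at h
      exact h
    let g : rightCentralizer a := ⟨g₀, hgmem⟩
    have hcR : ∀ (w : S) (hw : w ∈ Q) (v : S) (y : Pts a),
        (fun y => (⟨_, hc w hw y⟩ : Z)) ((((1 : S), v) : S × S) • y) = (fun y => (⟨_, hc w hw y⟩ : Z)) y := by
      intro w hw v y
      have h1 := congrArg Subtype.val (hdR w v y)
      apply Subtype.ext
      show _ = _
      simp only [d, ← hdc w hw] at h1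
      exact mul_left_cancel h1
    have hperm := prod_perm (c := fun y => (⟨_, hc _ hQφu y⟩ : Z)) (hcR ⟨φ u, hφu⟩ hQφu) g
    simp only [hprod _ hQφu] at hperm
    let K : Pts a → S ⧸ Q₀ := fun y => r (g₀ y) * (r y)⁻¹
    have hKR : ∀ (v : S) (y : Pts a), K ((((1 : S), v) : S × S) • y) = K y := by
      intro v y
      show r (g₀ _) * (r _)⁻¹ = _
      rw [hgmem v y, hrR, hrR]
      simp [K, mul_assoc]
    let sec : S ⧸ Q₀ → Z := fun e =>
      ⟨((e : (S ⧸ Q₀) ⧸ Z).out)⁻¹ * e, QuotientGroup.eq.1 (QuotientGroup.out_eq' (e : (S ⧸ Q₀) ⧸ Z))⟩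
    have hsec : ∀ (e : S ⧸ Q₀) (z : Z), sec (e * z) = sec e * z := by
      intro e z
      apply Subtype.ext
      show (((e * z : S ⧸ Q₀) : (S ⧸ Q₀) ⧸ Z).out)⁻¹ * (e * z) = _
      rw [show ((e * z : S ⧸ Q₀) : (S ⧸ Q₀) ⧸ Z) = (e : (S ⧸ Q₀) ⧸ Z) from
        QuotientGroup.mk_mul_of_mem e z.2, ← mul_assoc]
      rfl
    have hsecR : ∀ (v : S) (y : Pts a), (fun y => sec (K y)) ((((1 : S), v) : S × S) • y) =
        (fun y => sec (K y)) y := fun v y => by simp only [hKR]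
    have hshift := prod_left (c := fun y => sec (K y)) hsecR (⟨(u : Ω), hu⟩ : S)
    have hrel : ∀ t : RightOrbits a, (⟨_, hc _ hQφu (g₀ (sel t))⟩ : Z) =
        (⟨_, hc _ hQu (sel t)⟩ : Z) * (sec (K ((((⟨u, hu⟩ : S), (1 : S)) : S × S) • sel t)))⁻¹ * sec (K (sel t)) := by
      intro t
      generalize hy : sel t = y
      let z : Z := (⟨_, hc _ hQu y⟩ : Z)⁻¹ * ⟨_, hc _ hQφu (g₀ y)⟩
      have hg1 : g₀ ((((⟨u, hu⟩ : S), (1 : S)) : S × S) • y) = (((⟨φ u, hφu⟩ : S), (1 : S)) : S × S) • g₀ y :=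
        hg₀ u 1 y hu hφu
      have hz : K y = K ((((⟨u, hu⟩ : S), (1 : S)) : S × S) • y) * (z : S ⧸ Q₀) := by
        rw [hZcen _ z.2]
        show r (g₀ y) * (r y)⁻¹ = (((r ((((⟨u, hu⟩ : S), (1 : S)) : S × S) • y))⁻¹ * r y)⁻¹ *
          ((r ((((⟨φ u, hφu⟩ : S), (1 : S)) : S × S) • g₀ y))⁻¹ * r (g₀ y))) * (r (g₀ _) * (r _)⁻¹)
        rw [← hg1]
        generalize hA : r (g₀ ((((⟨u, hu⟩ : S), (1 : S)) : S × S) • y)) = A'
        have hzA : A'⁻¹ * r (g₀ y) ∈ Z := by rw [← hA, hg1]; exact hc _ hQφu (g₀ y)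
        have hzc := hc _ hQu y
        generalize r (g₀ y) = B' at hzA ⊢
        generalize r ((((⟨u, hu⟩ : S), (1 : S)) : S × S) • y) = C' at hzc ⊢
        generalize r y = E' at hzc ⊢
        calc B' * E'⁻¹ = A' * (A'⁻¹ * B') * ((C'⁻¹ * E')⁻¹ * C'⁻¹) := by group
          _ = A' * (((C'⁻¹ * E')⁻¹ * (A'⁻¹ * B')) * C'⁻¹) := by
            rw [hZcen _ hzA (C'⁻¹ * E')⁻¹]; group
          _ = ((C'⁻¹ * E')⁻¹ * (A'⁻¹ * B')) * (A' * C'⁻¹) := by
            rw [← mul_assoc, hZcen _ (Z.mul_mem (Z.inv_mem hzc) hzA) A', mul_assoc]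
      rw [hz, hsec, mul_assoc, inv_mul_cancel_left]
      show _ = _ * (_⁻¹ * _)
      rw [mul_inv_cancel_left]
    have hsum : ∏ t : RightOrbits a, (⟨_, hc _ hQφu (g₀ (sel t))⟩ : Z) =
        ∏ t : RightOrbits a, (⟨_, hc _ hQu (sel t)⟩ : Z) := by
      simp only [hrel, Finset.prod_mul_distrib, Finset.prod_inv_distrib, hshift, inv_mul_cancel_right]
    rw [show ∏ t : RightOrbits a, (⟨_, hc _ hQφu ((g : Equiv.Perm (Pts a)) (sel t))⟩ : Z) =
      ∏ t : RightOrbits a, (⟨_, hc _ hQu (sel t)⟩ : Z) from hsum, hprod _ hQu] at hperm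
    exact hperm.symm
  -- the character vanishes on the hyperfocal subgroup
  have hdis : ∀ {U : Subgroup Ω} (hU : U ≤ S) (β : F.autGroup U), β ∈ pResidual p (F.autGroup U) → ∀ x : U,
      ((⟨(x : Ω), hU x.2⟩ : S)⁻¹ * ⟨_, hU ((β : MulAut U) x).2⟩ : S) ∈ Q := fun {U} hU β hβ x =>
    hQle (Subgroup.mem_subgroupOf.2 (Subgroup.subset_closure ⟨U, β, x, hU, hβ, rfl⟩))
  have hker : ∀ w : Q, f w = 1 := by
    have hgen : Q ≤ f.ker.map Q.subtype := by
      intro s hs
      rw [← hQ, Subgroup.mem_subgroupOf] at hs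
      suffices h : F.hyperfocalSubgroup p ≤ (f.ker.map Q.subtype).map S.subtype by
        obtain ⟨t, ht, hts⟩ := h hs
        rwa [← Subtype.ext hts]
      rw [FusionSystem.hyperfocalSubgroup, Subgroup.closure_le]
      rintro _ ⟨U, β, x, hU, hβ, rfl⟩
      have := finite_of_le hU
      refine ⟨_, ⟨⟨_, hdis hU β hβ x⟩, ?_, rfl⟩, rfl⟩
      revert x
      rw [pResidual] at hβ
      -- every element of the residual displaces into the kernel
      induction hβ using Subgroup.closure_induction with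
      | one =>
        intro x
        exact ((congrArg f (Subtype.ext (by simp) :
          (⟨_, hdis hU 1 (one_mem _) x⟩ : Q) = 1)).trans (map_one f))
      | mul γ δ hγ hδ ihγ ihδ =>
        intro x
        show f _ = 1
        have e : (⟨_, hdis hU (γ * δ) (mul_mem hγ hδ) x⟩ : Q) =
            ⟨_, hdis hU δ hδ x⟩ * ⟨_, hdis hU γ hγ ((δ : MulAut U) x)⟩ :=
          Subtype.ext (Subtype.ext (by simp [mul_assoc]))
        rw [e, map_mul, show f _ = 1 from ihδ hδ x, show f _ = 1 from ihγ hγ _, mul_one]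
      | inv γ hγ ihγ =>
        intro x
        show f _ = 1
        have e : (⟨_, hdis hU γ⁻¹ (inv_mem hγ) x⟩ : Q) =
            (⟨_, hdis hU γ hγ ((γ : MulAut U)⁻¹ x)⟩ : Q)⁻¹ :=
          Subtype.ext (Subtype.ext (by simp))
        rw [e, map_inv, show f _ = 1 from ihγ hγ _, inv_one]
      | mem γ hγ =>
        intro x
        show f _ = 1
        have hmem : ∀ m : ℕ, γ ^ m ∈ pResidual p (F.autGroup U) :=
          fun m => Subgroup.pow_mem _ (H22.mem_pResidual_of_coprime hγ) m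
        let d : ℕ → Q := fun m => ⟨_, hdis hU (γ ^ m) (hmem m) x⟩
        have hm : ∀ m : ℕ, f (d m) = f (d 1) ^ m := by
          intro m
          induction m with
          | zero => rw [pow_zero, show d 0 = 1 from Subtype.ext (Subtype.ext (by simp [d])), map_one]
          | succ m ihm =>
            let y : U := x⁻¹ * ((γ ^ m : F.autGroup U) : MulAut U) x
            have hy : (⟨(y : Ω), hU y.2⟩ : S) ∈ Q := hdis hU (γ ^ m) (hmem m) x
            have hγy : (⟨_, hU ((γ : MulAut U) y).2⟩ : S) ∈ Q := by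
              have := Q.mul_mem hy (hdis hU γ (H22.mem_pResidual_of_coprime hγ) y)
              rwa [mul_inv_cancel_left] at this
            have e : d (m + 1) = d 1 * (⟨_, hγy⟩ : Q) := by
              refine Subtype.ext (Subtype.ext ?_)
              simp [d, y, pow_succ', pow_one, map_mul, map_inv, mul_assoc]
            have hc2 : f (⟨_, hγy⟩ : Q) = f ⟨_, hy⟩ :=
              hcrit ((mem_autGroup F hU).1 γ.2) y (hU y.2) (hU ((γ : MulAut U) y).2) hy hγy
            rw [e, map_mul, hc2, pow_succ', ← ihm]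
            rfl
        have h1 := hm (orderOf γ)
        rw [show d (orderOf γ) = 1 from Subtype.ext (Subtype.ext (by simp [d, pow_orderOf_eq_one])), map_one] at h1
        have hnd : ¬ p ∣ orderOf γ := fun hd =>
          (Fact.out : p.Prime).ne_one (Nat.eq_one_of_dvd_coprimes hγ hd dvd_rfl)
        obtain ⟨k, hk⟩ := exists_pow_inverse (hEp.to_subgroup Z) hnd
        have h2 : f (d 1) = 1 := by rw [← hk (f (d 1)), ← h1, one_pow]
        rw [← h2]
        exact congrArg f (Subtype.ext (Subtype.ext (by simp [d])))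
    intro w
    obtain ⟨t, ht, htw⟩ := hgen w.2
    rw [← Subtype.ext htw]; exact ht
  have hDQ : ∀ w : Q, D (w : S) = (⟨π (w : S), hZ ▸ ⟨(w : S), w.2, rfl⟩⟩ : Z) ^ n := fun w =>
    (inv_mul_eq_one.1 (hker w)).symm
  have hle : Q ≤ D.ker := hsub.trans (sup_le hDΦ fun w hw => by
    rw [MonoidHom.mem_ker, hDQ ⟨w, hQh hw⟩]
    rw [show (⟨π w, _⟩ : Z) = 1 from Subtype.ext ((QuotientGroup.eq_one_iff _).2 (hQhQ₀ hw)), one_pow])
  obtain ⟨k, hk⟩ := exists_pow_inverse (hEp.to_subgroup Z) hn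
  have hbot : Z = ⊥ := by
    rw [← hZ, Subgroup.eq_bot_iff_forall]
    rintro _ ⟨w, hw, rfl⟩
    have h1 := MonoidHom.mem_ker.1 (hle hw)
    rw [hDQ ⟨w, hw⟩] at h1
    have h2 := congrArg (fun z : Z => z ^ k) h1
    simp only [hk, one_pow] at h2
    exact congrArg Subtype.val h2
  rw [hbot, Subgroup.card_bot] at hZc
  exact (Fact.out : p.Prime).ne_one hZc.symm

end Cfsg.Agent.H80
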