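import Mathlib

/-!
A homomorphism on a normal subgroup of index `p` with nontrivial orbit product yields a quotient of order `p ^ (p + 1)`
embedded in the symmetric group of degree `p²`, i.e. the wreath product of two groups of order `p`.
-/
set_option autoImplicit false

namespace Cfsg.Agent.H80.Yoshida

open Polynomial

variable {p : ℕ} [Fact p.Prime]

/-- In characteristic `p`, `(X - 1) ^ (p - 1) = 1 + X + ⋯ + X ^ (p - 1)`. -/
theorem sub_one_pow_pred : ((X : (ZMod p)[X]) - 1) ^ (p - 1) = ∑ i ∈ Finset.range p, X ^ i := by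
  have hp := (Fact.out : p.Prime)
  refine mul_left_cancel₀ (sub_ne_zero.2 (Polynomial.X_ne_C (1 : ZMod p))) ?_
  rw [show (X - C (1 : ZMod p)) = X - 1 by rw [map_one], ← pow_succ', Nat.sub_add_cancel hp.one_le,
    mul_geom_sum, sub_pow_char, one_pow]

/-- The cyclic shift. -/
noncomputable def shift : (ZMod p → ZMod p) →ₗ[ZMod p] (ZMod p → ZMod p) :=
  LinearMap.funLeft (ZMod p) (ZMod p) (fun i => i + 1)

theorem shift_pow (m : ℕ) (v : ZMod p → ZMod p) (i : ZMod p) :
    ((shift : (ZMod p → ZMod p) →ₗ[ZMod p] (ZMod p → ZMod p)) ^ m) v i = v (i + m) := by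
  induction m generalizing i with
  | zero => simp
  | succ m ih =>
    rw [pow_succ', Module.End.mul_apply]
    show ((shift : (ZMod p → ZMod p) →ₗ[ZMod p] (ZMod p → ZMod p)) ^ m) v (i + 1) = _
    rw [ih]
    push_cast
    congr 1
    ring

/-- A shift invariant space containing a vector with nonzero coordinate sum is everything. -/
theorem card_of_shift_invariant (V : Submodule (ZMod p) (ZMod p → ZMod p)) (hinv : ∀ v ∈ V, shift v ∈ V)
    {v : ZMod p → ZMod p} (hv : v ∈ V) (hsum : ∑ i, v i ≠ 0) : Nat.card V = p ^ p := by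
  have hp := (Fact.out : p.Prime)
  set σ : Module.End (ZMod p) (ZMod p → ZMod p) := shift
  set δ := σ - 1
  have hev : ∀ f : (ZMod p)[X], aeval σ ((X - 1) * f) = δ * aeval σ f := fun f => by
    simp [δ]
  have hpred : δ ^ (p - 1) = ∑ i ∈ Finset.range p, σ ^ i := by
    have h := congrArg (aeval σ) (sub_one_pow_pred (p := p))
    simpa [δ, map_sum, map_pow] using h
  have hσp : σ ^ p = 1 := by
    refine LinearMap.ext fun w => funext fun i => ?_
    rw [shift_pow]; simp
  have hδp : δ ^ p = 0 := by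
    rw [show δ ^ p = δ ^ (p - 1 + 1) from congrArg (δ ^ ·) (Nat.sub_add_cancel hp.one_le).symm, pow_succ', hpred, show δ * ∑ i ∈ Finset.range p, σ ^ i = σ ^ p - 1 from mul_geom_sum σ p, hσp, sub_self]
  have hδV : ∀ w ∈ V, δ w ∈ V := fun w hw => V.sub_mem (hinv w hw) hw
  have hmap : ∀ m, V.map (δ ^ m) ≤ V := by
    intro m
    induction m with
    | zero => rw [pow_zero, Module.End.one_eq_id, Submodule.map_id]
    | succ m ih =>
      rintro _ ⟨w, hw, rfl⟩
      rw [pow_succ', Module.End.mul_apply]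
      exact hδV _ (ih ⟨w, hw, rfl⟩)
  have hne : V.map (δ ^ (p - 1)) ≠ ⊥ := by
    intro h
    have h0 : (δ ^ (p - 1)) v ∈ V.map (δ ^ (p - 1)) := ⟨v, hv, rfl⟩
    rw [h, Submodule.mem_bot, hpred] at h0
    refine hsum ?_
    have h1 := congrFun h0 0
    simp only [LinearMap.sum_apply, Finset.sum_apply, σ, shift_pow, zero_add, Pi.zero_apply] at h1
    rw [← h1]
    refine (Finset.sum_nbij (fun i : ℕ => (i : ZMod p)) (fun i _ => Finset.mem_univ _) ?_ ?_ fun i _ => rfl).symm
    · intro i hi j hj h
      have := congrArg ZMod.val h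
      rwa [ZMod.val_natCast_of_lt (Finset.mem_range.1 hi), ZMod.val_natCast_of_lt (Finset.mem_range.1 hj)] at this
    · intro z _
      exact ⟨z.val, Finset.mem_coe.2 (Finset.mem_range.2 (ZMod.val_lt z)), ZMod.natCast_zmod_val z⟩
  -- strictly decreasing chain
  have hchain : ∀ j ≤ p - 1, j + 1 ≤ Module.finrank (ZMod p) (V.map (δ ^ (p - 1 - j))) := by
    intro j hj
    induction j with
    | zero =>
      rw [Nat.sub_zero, zero_add, Nat.one_le_iff_ne_zero, ne_eq, Submodule.finrank_eq_zero]
      exact hne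
    | succ j ih =>
      have ih' := ih (by omega)
      set m := p - 1 - (j + 1) with hm
      have hm1 : p - 1 - j = m + 1 := by omega
      rw [hm1] at ih'
      have hle : V.map (δ ^ (m + 1)) ≤ V.map (δ ^ m) := by
        rintro _ ⟨w, hw, rfl⟩
        exact ⟨δ w, hδV w hw, by rw [pow_succ, Module.End.mul_apply]⟩
      have hlt : V.map (δ ^ (m + 1)) < V.map (δ ^ m) := by
        refine lt_of_le_of_ne hle fun heq => ?_
        have hfix : ∀ i, V.map (δ ^ (m + i)) = V.map (δ ^ m) := by
          intro i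
          induction i with
          | zero => rfl
          | succ i ihi =>
            rw [← add_assoc, pow_succ', Module.End.mul_eq_comp, Submodule.map_comp, ihi, ← Submodule.map_comp,
              ← Module.End.mul_eq_comp, ← pow_succ', heq]
        have h2 := hfix (p - m)
        rw [Nat.add_sub_cancel' (by omega), hδp, Submodule.map_zero] at h2
        rw [heq, ← h2, finrank_bot] at ih'
        omega
      exact (Nat.succ_le_succ ih').trans (Submodule.finrank_lt_finrank_of_lt hlt)
  have h1 : p ≤ Module.finrank (ZMod p) V := by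
    have := hchain (p - 1) le_rfl
    rw [Nat.sub_self, pow_zero, Module.End.one_eq_id, Submodule.map_id] at this
    omega
  have h2 : Module.finrank (ZMod p) V ≤ p := (Submodule.finrank_le V).trans (by simp)
  rw [Module.natCard_eq_pow_finrank (K := ZMod p), Nat.card_zmod, le_antisymm h2 h1]

variable {G : Type*} [Group G] [Finite G]

/-- The order of a Sylow subgroup of the symmetric group of degree `p²`. -/
theorem card_sylow_perm_sq (W : Sylow p (Equiv.Perm (Fin (p ^ 2)))) : Nat.card W = p ^ (p + 1) := by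
  rw [W.card_eq_multiplicity, Nat.card_eq_fintype_card, Fintype.card_perm, Fintype.card_fin,
    Nat.factorization_def _ Fact.out, sq, padicValNat_factorial_mul]
  congr 1
  have h := padicValNat_factorial_mul (p := p) 1
  simp at h
  omega

/-- Without a wreath quotient every orbit product vanishes. -/
theorem sum_conj_eq_zero (hG : IsPGroup p G)
    (hW : ¬ ∃ (W : Sylow p (Equiv.Perm (Fin (p ^ 2))))
      (f : G →* ↥(W : Subgroup (Equiv.Perm (Fin (p ^ 2))))), Function.Surjective f)
    (M : Subgroup G) [M.Normal] (hM : M.index = p) (μ : M →* Multiplicative (ZMod p)) {s : G} (hs : s ∉ M)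
    (x : M) : ∏ i ∈ Finset.range p, μ ⟨(s ^ i)⁻¹ * (x : G) * s ^ i, by
      simpa using (inferInstance : M.Normal).conj_mem (x : G) x.2 (s ^ i)⁻¹⟩ = 1 := by
  by_contra hne
  have hp := (Fact.out : p.Prime)
  have hmem : ∀ (i : ℕ) (u : M), (s ^ i)⁻¹ * (u : G) * s ^ i ∈ M := fun i u => by
    simpa using (inferInstance : M.Normal).conj_mem (u : G) u.2 (s ^ i)⁻¹
  let c : ℕ → M → Multiplicative (ZMod p) := fun i u => μ ⟨_, hmem i u⟩
  have hsp : s ^ p ∈ M := hM ▸ Subgroup.pow_index_mem _ s
  have hper : ∀ i u, c (i + p) u = c i u := by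
    intro i u
    simp only [c]
    have e : (⟨_, hmem (i + p) u⟩ : M) = (⟨_, hsp⟩ : M)⁻¹ * ⟨_, hmem i u⟩ * ⟨_, hsp⟩ := by
      apply Subtype.ext
      simp [pow_add, mul_assoc]
    rw [e, map_mul, map_mul, map_inv, mul_comm (μ _)⁻¹, inv_mul_cancel_right]
  have hmod : ∀ i u, c (i % p) u = c i u := by
    intro i u
    conv_rhs => rw [← Nat.mod_add_div i p]
    generalize i % p = r
    induction i / p with
    | zero => simp
    | succ m ih => rw [Nat.mul_succ, ← add_assoc, hper, ih]
  let Ψ : M →* Multiplicative (ZMod p → ZMod p) := MonoidHom.mk'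
    (fun u => Multiplicative.ofAdd fun i => (c i.val u).toAdd) fun u w => by
      apply Multiplicative.toAdd.injective
      funext i
      show (c i.val (u * w)).toAdd = (c i.val u).toAdd + (c i.val w).toAdd
      rw [← toAdd_mul]
      congr 1
      simp only [c, ← map_mul]
      congr 1
      apply Subtype.ext
      simp [mul_assoc]
  let V : Submodule (ZMod p) (ZMod p → ZMod p) :=
    AddSubgroup.toZModSubmodule p (MonoidHom.toAdditiveLeft Ψ).range
  have hVmem : ∀ v, v ∈ V ↔ ∃ u : M, Ψ u = Multiplicative.ofAdd v := fun v =>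
    ⟨fun ⟨u, hu⟩ => ⟨u.toMul, congrArg Multiplicative.ofAdd hu⟩,
      fun ⟨u, hu⟩ => ⟨Additive.ofMul u, congrArg Multiplicative.toAdd hu⟩⟩
  have hinv : ∀ v ∈ V, shift v ∈ V := by
    intro v hv
    obtain ⟨u, hu⟩ := (hVmem v).1 hv
    refine (hVmem _).2 ⟨⟨_, hmem 1 u⟩, ?_⟩
    apply Multiplicative.toAdd.injective
    funext i
    show (c i.val ⟨_, hmem 1 u⟩).toAdd = v (i + 1)
    rw [show v (i + 1) = (c (i + 1).val u).toAdd from (congrFun (congrArg Multiplicative.toAdd hu) (i + 1)).symm,
      ZMod.val_add, ZMod.val_one, hmod]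
    congr 1
    simp only [c]
    congr 1
    apply Subtype.ext
    simp [pow_succ', mul_assoc]
  have hsum : ∑ i, (Ψ x).toAdd i ≠ 0 := by
    intro h
    apply hne
    apply Multiplicative.toAdd.injective
    rw [toAdd_prod, toAdd_one, ← h]
    refine Finset.sum_nbij (fun i : ℕ => (i : ZMod p)) (fun i _ => Finset.mem_univ _) ?_ ?_ fun i hi => ?_
    · intro i hi j hj h
      have := congrArg ZMod.val h
      rwa [ZMod.val_natCast_of_lt (Finset.mem_range.1 hi), ZMod.val_natCast_of_lt (Finset.mem_range.1 hj)] at this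
    · intro z _
      exact ⟨z.val, Finset.mem_coe.2 (Finset.mem_range.2 (ZMod.val_lt z)), ZMod.natCast_zmod_val z⟩
    · show _ = (c (i : ZMod p).val x).toAdd
      rw [ZMod.val_natCast_of_lt (Finset.mem_range.1 hi)]
  have hVc : Nat.card V = p ^ p := card_of_shift_invariant V hinv ((hVmem _).2 ⟨x, rfl⟩) hsum
  have hker : Nat.card V = Ψ.ker.index := by
    rw [Subgroup.index_ker]
    exact Nat.card_congr
      ⟨fun v => ⟨Multiplicative.ofAdd (v : ZMod p → ZMod p), (hVmem _).1 v.2⟩,
        fun w => ⟨(w : Multiplicative (ZMod p → ZMod p)).toAdd, (hVmem _).2 w.2⟩, fun v => rfl, fun w => rfl⟩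
  -- the action on the cosets of the kernel of `μ`
  let K : Subgroup G := μ.ker.map M.subtype
  have hKM : K ≤ M := Subgroup.map_subtype_le _
  have hKi : K.index = p ^ 2 := by
    have h := Subgroup.relIndex_mul_index hKM
    rw [hM, show K.relIndex M = μ.ker.index by
      rw [Subgroup.relIndex, Subgroup.subgroupOf, Subgroup.comap_map_eq_self_of_injective M.subtype_injective],
      Subgroup.index_ker] at h
    have hd : Nat.card μ.range ∣ p := by
      have := Subgroup.card_subgroup_dvd_card μ.range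
      simpa using this
    rcases (Nat.dvd_prime hp).1 hd with h1 | h1
    · exfalso
      apply hne
      refine Finset.prod_eq_one fun i _ => ?_
      have := Subgroup.card_eq_one.1 h1
      exact (Subgroup.mem_bot.1 (this ▸ ⟨_, rfl⟩ : μ ⟨_, hmem i x⟩ ∈ (⊥ : Subgroup (Multiplicative (ZMod p)))))
    · rw [h1] at h; rw [← h, sq]
  obtain ⟨e⟩ : Nonempty ((G ⧸ K) ≃ Fin (p ^ 2)) :=
    Finite.card_eq.1 (by rw [← Subgroup.index_eq_card, hKi, Nat.card_fin])
  let φ : G →* Equiv.Perm (Fin (p ^ 2)) :=
    e.permCongrHom.toMonoidHom.comp (MulAction.toPermHom G (G ⧸ K))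
  have hφker : φ.ker ≤ Ψ.ker.map M.subtype := by
    intro g hg
    rw [MonoidHom.mem_ker, MonoidHom.comp_apply] at hg
    have hg' : MulAction.toPermHom G (G ⧸ K) g = 1 :=
      e.permCongrHom.injective (hg.trans e.permCongrHom.map_one.symm)
    have hfix : ∀ a : G, a⁻¹ * g * a ∈ K := by
      intro a
      have h := Equiv.congr_fun hg' (a : G ⧸ K)
      have h' : ((g * a : G) : G ⧸ K) = (a : G) := h
      have := QuotientGroup.eq.1 h'.symm
      rwa [← mul_assoc] at this
    have hgM : g ∈ M := by simpa using hKM (hfix 1)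
    refine ⟨⟨g, hgM⟩, ?_, rfl⟩
    apply Multiplicative.toAdd.injective
    funext i
    obtain ⟨w, hw, hwe⟩ := hfix (s ^ i.val)
    show (c i.val ⟨g, hgM⟩).toAdd = 0
    simp only [c]
    rw [show (⟨_, hmem i.val ⟨g, hgM⟩⟩ : M) = w from Subtype.ext hwe.symm, MonoidHom.mem_ker.1 hw]
    rfl
  have hrange : p ^ (p + 1) ≤ Nat.card φ.range := by
    rw [← Subgroup.index_ker]
    refine le_trans ?_ (Nat.le_of_dvd (Nat.pos_of_ne_zero Subgroup.index_ne_zero_of_finite)
      (Subgroup.index_dvd_of_le hφker))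
    rw [← Subgroup.relIndex_mul_index (Subgroup.map_subtype_le Ψ.ker), hM,
      show (Ψ.ker.map M.subtype).relIndex M = Ψ.ker.index by
        rw [Subgroup.relIndex, Subgroup.subgroupOf, Subgroup.comap_map_eq_self_of_injective M.subtype_injective],
      ← hker, hVc, pow_succ]
  obtain ⟨W, hW'⟩ := (hG.of_surjective φ.rangeRestrict φ.rangeRestrict_surjective).exists_le_sylow
  refine hW ⟨W, φ.codRestrict _ fun g => hW' ⟨g, rfl⟩, fun w => ?_⟩
  have heq : φ.range = W := Subgroup.eq_of_le_of_card_ge hW' (by rw [card_sylow_perm_sq]; exact hrange)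
  obtain ⟨g, hg⟩ : (w : Equiv.Perm (Fin (p ^ 2))) ∈ φ.range := (SetLike.ext_iff.1 heq _).2 w.2
  exact ⟨g, Subtype.ext hg⟩

end Cfsg.Agent.H80.Yoshida
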