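import Cfsg.Agent.H80.WreathQuotient
import Cfsg.Agent.H80.TateRelative
import Cfsg.Agent.H93.Focal

/-!
Yoshida's theorem on control of transfer for saturated fusion systems.
-/
set_option autoImplicit false

namespace Cfsg.Agent.H80.Yoshida

open Cfsg Cfsg.Agent.H96
open scoped commutatorElement

variable {Ω : Type*} [Group Ω] {S : Subgroup Ω} [Finite S]

attribute [local instance] Fintype.ofFinite

/-- The quotients `x⁻¹ α(x)` for the automizer of `S`. -/
def topFocal (F : FusionSystem S) : Subgroup Ω :=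
  Subgroup.closure {y | ∃ α ∈ F.autGroup S, ∃ x : S, y = (x : Ω)⁻¹ * ((α x : S) : Ω)}

/-- Sums of a cocycle over a multiset with the values of a product. -/
theorem prod_cocycle_orbit {T C : Type*} [Fintype T] [DecidableEq T] [CommMonoid C] (σ : Equiv.Perm T) (c : T → C)
    (U : Finset T) (hU : ∀ t, t ∈ U ↔ σ t ∈ U)
    (h : ∀ t ∈ U, ∀ k, 0 < k → (σ ^ k) t = t → (∀ j, 0 < j → j < k → (σ ^ j) t ≠ t) →
      ∏ j ∈ Finset.range k, c ((σ ^ j) t) = 1) : ∏ t ∈ U, c t = 1 := by
  induction U using Finset.strongInduction with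
  | _ U ih =>
  rcases U.eq_empty_or_nonempty with rfl | ⟨t, ht⟩
  · rfl
  have hex : ∃ k, 0 < k ∧ (σ ^ k) t = t :=
    ⟨orderOf σ, orderOf_pos σ, by rw [pow_orderOf_eq_one, Equiv.Perm.one_apply]⟩
  classical
  set k := Nat.find hex
  obtain ⟨hk0, hkt⟩ := Nat.find_spec hex
  have hmin : ∀ j, 0 < j → j < k → (σ ^ j) t ≠ t := fun j hj hjk he => Nat.find_min hex hjk ⟨hj, he⟩
  set O := (Finset.range k).image fun j => (σ ^ j) t
  have hOmem : ∀ j, (σ ^ j) t ∈ U := by
    intro j
    induction j with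
    | zero => simpa using ht
    | succ j ihj => rw [pow_succ', Equiv.Perm.mul_apply]; exact (hU _).1 ihj
  have hOσ : ∀ z, z ∈ O ↔ σ z ∈ O := by
    have hfw : ∀ z ∈ O, σ z ∈ O := by
      intro z hz
      obtain ⟨j, hj, rfl⟩ := Finset.mem_image.1 hz
      rw [← Equiv.Perm.mul_apply, ← pow_succ']
      rcases Nat.lt_or_ge (j + 1) k with h1 | h1
      · exact Finset.mem_image.2 ⟨j + 1, Finset.mem_range.2 h1, rfl⟩
      · exact Finset.mem_image.2 ⟨0, Finset.mem_range.2 hk0, by
          rw [show j + 1 = k by have := Finset.mem_range.1 hj; omega, pow_zero, Equiv.Perm.one_apply]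
          exact hkt.symm⟩
    intro z
    refine ⟨hfw z, fun hz => ?_⟩
    have h1 : O.image σ = O := Finset.eq_of_subset_of_card_le
      (Finset.image_subset_iff.2 hfw) (Finset.card_image_of_injective _ σ.injective).ge
    rw [← h1, Finset.mem_image] at hz
    obtain ⟨y, hy, hye⟩ := hz
    rwa [σ.injective hye] at hy
  have hsub : O ⊆ U := Finset.image_subset_iff.2 fun j _ => hOmem j
  have hlt : U \ O ⊂ U := Finset.sdiff_ssubset hsub
    ⟨t, Finset.mem_image.2 ⟨0, Finset.mem_range.2 hk0, by simp⟩⟩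
  rw [← Finset.prod_sdiff hsub, ih _ hlt (fun z => by rw [Finset.mem_sdiff, Finset.mem_sdiff, hU z, hOσ z])
    (fun z hz => h z (Finset.mem_sdiff.1 hz).1), one_mul, Finset.prod_image]
  · exact h t ht k hk0 hkt hmin
  · intro i hi j hj hij
    have key : ∀ i j, i < j → j < k → (σ ^ i) t ≠ (σ ^ j) t := fun i j hlt hjk he => by
      refine hmin (j - i) (by omega) (by omega) ((σ ^ i).injective ?_)
      rw [← Equiv.Perm.mul_apply, ← pow_add, Nat.add_sub_cancel' hlt.le]
      exact he.symm
    rcases lt_trichotomy i j with h1 | h1 | h1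
    · exact absurd hij (key i j h1 (Finset.mem_range.1 hj))
    · exact h1
    · exact absurd hij.symm (key j i h1 (Finset.mem_range.1 hi))

/-- A maximal subgroup of a `p`-group above a proper subgroup is normal of index `p`. -/
theorem exists_index_prime {G : Type*} [Group G] [Finite G] {p : ℕ} [Fact p.Prime] (hG : IsPGroup p G)
    {T : Subgroup G} (hT : T ≠ ⊤) : ∃ M : Subgroup G, M.Normal ∧ M.index = p ∧ T ≤ M := by
  have hp := (Fact.out : p.Prime)
  obtain ⟨e, he⟩ := hG.exists_card_eq
  obtain ⟨j, hj⟩ := (hG.to_subgroup T).exists_card_eq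
  have hje : j < e := by
    refine (Nat.pow_lt_pow_iff_right hp.one_lt).1 ?_
    rw [← hj, ← he]
    exact lt_of_le_of_ne (Nat.le_of_dvd Nat.card_pos T.card_subgroup_dvd_card) fun h => hT (Subgroup.card_eq_iff_eq_top T |>.1 h)
  obtain ⟨M, hM, hTM⟩ := Sylow.exists_subgroup_card_pow_prime_le p
    (by rw [he]; exact pow_dvd_pow p (Nat.sub_le e 1)) T hj (show j ≤ e - 1 by omega)
  have hidx : M.index = p := by
    have h := M.card_mul_index
    rw [hM, he, show p ^ e = p ^ (e - 1) * p by rw [← pow_succ]; congr 1; omega] at h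
    exact Nat.eq_of_mul_eq_mul_left (pow_pos hp.pos _) h
  refine ⟨M, Subgroup.normal_of_index_eq_minFac_card ?_, hidx, hTM⟩
  rw [hidx, he, Nat.pow_minFac (by omega), hp.minFac_eq]

/-- A power of `s ∉ M` with exponent prime to the index `p` lies outside `M`. -/
theorem pow_notMem_of_index_prime {G : Type*} [Group G] {p : ℕ} [hp : Fact p.Prime] {M : Subgroup G} [M.Normal]
    (hM : M.index = p) {s : G} (hs : s ∉ M) {d : ℕ} (hd0 : 0 < d) (hdp : d < p) : s ^ d ∉ M := by
  intro h3
  have hc : Nat.Coprime p d := (hp.out.coprime_iff_not_dvd).2 fun h => by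
    have := Nat.le_of_dvd hd0 h
    omega
  have h4 : s ^ p ∈ M := hM ▸ Subgroup.pow_index_mem _ s
  obtain ⟨r, q, hrq⟩ := Nat.Coprime.isCoprime hc
  refine hs ?_
  have e : s = (s ^ p) ^ r * (s ^ d) ^ q := by
    rw [← zpow_natCast, ← zpow_natCast, ← zpow_mul, ← zpow_mul, ← zpow_add, mul_comm (p : ℤ),
      mul_comm (d : ℤ), hrq, zpow_one]
  rw [e]
  exact M.mul_mem (M.zpow_mem h4 r) (M.zpow_mem h3 q)

/-- The powers of `s ∉ M` represent the cosets of `M` of prime index. -/
theorem exists_pow_coset {G : Type*} [Group G] {p : ℕ} [hp : Fact p.Prime] {M : Subgroup G} [M.Normal]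
    (hM : M.index = p) {s : G} (hs : s ∉ M) (g : G) : ∃ i < p, (s ^ i)⁻¹ * g ∈ M := by
  have hc : Nat.card (G ⧸ M) = p := by rw [← hM, Subgroup.index]
  haveI : Finite (G ⧸ M) := Nat.finite_of_card_ne_zero (by rw [hc]; exact hp.out.ne_zero)
  have hmem : (g : G ⧸ M) ∈ Subgroup.zpowers (s : G ⧸ M) :=
    mem_zpowers_of_prime_card hc fun h => hs ((QuotientGroup.eq_one_iff s).1 h)
  obtain ⟨i, hi⟩ := mem_powers_iff_mem_zpowers.2 hmem
  refine ⟨i % p, Nat.mod_lt _ hp.out.pos, QuotientGroup.eq.1 ?_⟩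
  rw [QuotientGroup.mk_pow, ← hi]
  show (s : G ⧸ M) ^ (i % p) = (s : G ⧸ M) ^ i
  rw [← hc, pow_mod_natCard]

/-- A character killing the quotients of the automizer of `S` kills the focal subgroup when `S` has no wreath
quotient. -/
theorem char_kills_focal {F : FusionSystem S} {p : ℕ} [Fact p.Prime] (hS : IsPGroup p S) (hF : F.IsSaturated p)
    (hW : ¬ ∃ (W : Sylow p (Equiv.Perm (Fin (p ^ 2))))
      (f : ↥S →* ↥(W : Subgroup (Equiv.Perm (Fin (p ^ 2))))), Function.Surjective f)
    (lam : S →* Multiplicative (ZMod p))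
    (hlam : ∀ x : S, (x : Ω) ∈ topFocal F → lam x = 1) :
    ∀ x : S, (x : Ω) ∈ F.focalSubgroup → lam x = 1 := by
  classical
  intro x
  induction hm : orderOf x using Nat.strong_induction_on generalizing x with
  | _ m ih =>
  intro hx
  have hp := (Fact.out : p.Prime)
  have hA : ∀ q : Multiplicative (ZMod p), q ^ p = 1 := fun q => by
    apply Multiplicative.toAdd.injective
    simp
  obtain ⟨a, n, ha, hst, hn, hcard⟩ := exists_char_biset hS hF
  have hcT : Fintype.card (RightOrbits a) = n := by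
    rw [card_pts_eq ha] at hcard
    rw [Fintype.card_eq_nat_card]
    exact Nat.eq_of_mul_eq_mul_left Nat.card_pos hcard
  letI : MulAction S (Multiplicative (ZMod p)) := MulAction.compHom _ lam
  obtain ⟨ρ₀, hρ₀⟩ := exists_equivariant (X := Pull (MonoidHom.inr S S) (Pts a)) (Y := Multiplicative (ZMod p))
    (L := S) fun y => ⟨1, fun v hv => by
      rw [eq_one_of_right_fixed ha (x := (y : Pts a)) hv]; exact one_smul _ _⟩
  let ρ : Pts a → Multiplicative (ZMod p) := ρ₀
  have hρ : ∀ (v : S) (y : Pts a), ρ ((((1 : S), v) : S × S) • y) = lam v * ρ y := hρ₀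
  -- the contribution of one orbit of right translations
  let d : S → RightOrbits a → Multiplicative (ZMod p) := fun u t =>
    ρ (((u, (1 : S)) : S × S) • sel t) / ρ (sel t)
  have hdy : ∀ (u : S) (y : Pts a), ρ (((u, (1 : S)) : S × S) • y) / ρ y = d u (cls y) := by
    intro u y
    refine ratio_eq (g := fun y => ((u, (1 : S)) : S × S) • y) hρ (fun v y => ?_) y
    simp only [smul_smul, Prod.mk_mul_mk, one_mul, mul_one]
  have hcoc : ∀ (u w : S) (t : RightOrbits a), d (u * w) t = d u (w • t) * d w t := by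
    intro u w t
    have h1 := hdy u (((w, (1 : S)) : S × S) • sel t)
    rw [← smul_cls, cls_sel] at h1
    rw [← h1]
    show ρ (((u * w, (1 : S)) : S × S) • sel t) / ρ (sel t) = _
    rw [div_mul_div_cancel, smul_smul, Prod.mk_mul_mk, mul_one]
  have hd1 : ∀ t, d 1 t = 1 := fun t => by
    show ρ (((1 : S), (1 : S)) • sel t) / ρ (sel t) = 1
    rw [show (((1 : S), (1 : S)) : S × S) = 1 from rfl, one_smul, div_self']
  -- fixed orbits: the stabiliser is a twisted diagonal
  have hfixed : ∀ (u : S) (t : RightOrbits a), u • t = t → ∃ (R : Subgroup Ω) (θ : R →* Ω) (v : S),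
      θ ∈ F.Hom R ∧ (∃ h : (v : Ω) ∈ R, θ ⟨v, h⟩ = (u : Ω)) ∧ d u t = (lam v)⁻¹ ∧
        (∀ s : S, s • t = t → ∃ v' : S, ∃ h : (v' : Ω) ∈ R, θ ⟨v', h⟩ = (s : Ω)) := by
    intro u t hu
    obtain ⟨R, θ, hθ, hR⟩ := isTw_stabilizer ha (sel t)
    have hall : ∀ s : S, s • t = t → ∃ v : S, ((s, v) : S × S) • sel t = sel t := by
      intro s hs
      rw [← cls_sel t, smul_cls] at hs
      obtain ⟨v, hv⟩ := MulAction.orbitRel_apply.1 (Quotient.exact hs :)
      have hv' : (((1 : S), v) : S × S) • sel t = ((s, (1 : S)) : S × S) • sel t := hv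
      refine ⟨v⁻¹, ?_⟩
      rw [show ((s, v⁻¹) : S × S) = (((1 : S), v) : S × S)⁻¹ * (s, 1) by simp, mul_smul, ← hv', inv_smul_smul]
    obtain ⟨v, hv⟩ := hall u hu
    obtain ⟨hvR, hve⟩ : ((u, v) : S × S) ∈ (twist θ : Subgroup (S × S)) :=
      hR ▸ MulAction.mem_stabilizer_iff.2 hv
    refine ⟨R, θ, v, hθ, ⟨hvR, hve⟩, ?_, fun s hs => ?_⟩
    · show ρ (((u, (1 : S)) : S × S) • sel t) / ρ (sel t) = _
      conv_lhs => rw [show ((u, (1 : S)) : S × S) = (((1 : S), v⁻¹) : S × S) * (u, v) by simp, mul_smul, hv, hρ,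
        mul_div_cancel_right, map_inv]
    · obtain ⟨v', hv'⟩ := hall s hs
      obtain ⟨h1, h2⟩ : ((s, v') : S × S) ∈ (twist θ : Subgroup (S × S)) :=
        hR ▸ MulAction.mem_stabilizer_iff.2 hv'
      exact ⟨v', h1, h2⟩
  -- moved orbits contribute trivially
  have hlong : ∀ (U : Finset (RightOrbits a)), (∀ t, t ∈ U ↔ x • t ∈ U) → (∀ t ∈ U, x • t ≠ t) →
      ∏ t ∈ U, d x t = 1 := by
    intro U hU hne
    refine prod_cocycle_orbit (MulAction.toPerm x) (d x) U hU fun t ht k hk hkt hmin => ?_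
    have hpow : ∀ j t, ((MulAction.toPerm x : Equiv.Perm (RightOrbits a)) ^ j) t = x ^ j • t := by
      intro j
      induction j with
      | zero => simp
      | succ j ihj => intro t; rw [pow_succ', Equiv.Perm.mul_apply, ihj, MulAction.toPerm_apply, pow_succ', mul_smul]
    have hsum : ∀ k, ∏ j ∈ Finset.range k, d x (x ^ j • t) = d (x ^ k) t := by
      intro k
      induction k with
      | zero => rw [Finset.prod_range_zero, pow_zero, hd1]
      | succ k ihk => rw [Finset.prod_range_succ, ihk, pow_succ', hcoc, mul_comm]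
    simp only [hpow] at hkt hmin ⊢
    rw [hsum]
    obtain ⟨R, θ, v, hθ, ⟨hvR, hve⟩, hd, -⟩ := hfixed (x ^ k) t hkt
    rw [hd, inv_eq_one]
    have hk1 : k ≠ 1 := fun h1 => hne t ht (by rw [h1, pow_one] at hkt; exact hkt)
    have hord : orderOf (x ^ k) < orderOf x := by
      have hxpos := orderOf_pos x
      have hmod : k ∣ orderOf x := by
        by_contra hnd
        have hr : 0 < orderOf x % k := Nat.pos_of_ne_zero fun h => hnd (Nat.dvd_of_mod_eq_zero h)
        refine hmin _ hr (Nat.mod_lt _ hk) ?_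
        have hq : ∀ q, (x ^ (k * q)) • t = t := by
          intro q
          induction q with
          | zero => simp
          | succ q ihq => rw [Nat.mul_succ, pow_add, mul_smul, hkt, ihq]
        have h0 : (x ^ orderOf x) • t = t := by rw [pow_orderOf_eq_one, one_smul]
        rw [← Nat.mod_add_div (orderOf x) k, pow_add, mul_smul, hq] at h0
        exact h0
      rw [orderOf_pow' x (by omega), Nat.gcd_eq_right hmod]
      exact Nat.div_lt_self hxpos (by omega)
    have hv : orderOf v = orderOf (x ^ k) := by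
      rw [← Subgroup.orderOf_coe v, ← Subgroup.orderOf_coe (x ^ k), ← hve,
        orderOf_injective θ (F.injective_of_mem hθ), ← Subgroup.orderOf_coe (⟨(v : Ω), hvR⟩ : R)]
    refine ih _ (by rw [hv, ← hm]; exact hord) v rfl ?_
    have h1 : ((v : Ω))⁻¹ * θ ⟨v, hvR⟩ ∈ F.focalSubgroup := Subgroup.subset_closure ⟨R, θ, ⟨v, hvR⟩, hθ, rfl⟩
    have h2 : θ ⟨v, hvR⟩ ∈ F.focalSubgroup := by
      rw [hve]; simpa using F.focalSubgroup.pow_mem hx k
    have h3 := F.focalSubgroup.mul_mem h2 (F.focalSubgroup.inv_mem h1)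
    simpa using h3
  -- contributions of the orbits of `S`
  have horb : ∀ t₀ : RightOrbits a, ∏ t ∈ (Finset.univ.filter fun t => t ∈ MulAction.orbit S t₀), d x t =
      if ∀ s : S, s • t₀ = t₀ then (lam x)⁻¹ else 1 := by
    intro t₀
    split_ifs with hall
    · rw [show (Finset.univ.filter fun t => t ∈ MulAction.orbit S t₀) = {t₀} from ?_, Finset.prod_singleton]
      · obtain ⟨R, θ, v, hθ, ⟨hvR, hve⟩, hd, hsurj⟩ := hfixed x t₀ (hall x)
        obtain ⟨hRS, hθS⟩ := F.le_of_mem hθ
        have hRtop : R = S := by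
          refine Subgroup.eq_of_le_of_card_ge hRS ?_
          have := finite_of_le hRS
          refine Nat.card_le_card_of_surjective (fun r : R => (⟨θ r, hθS r⟩ : S)) fun s => ?_
          obtain ⟨v', h, hv'⟩ := hsurj s (hall s)
          exact ⟨⟨v', h⟩, Subtype.ext hv'⟩
        subst R
        obtain ⟨α, hα, hαe⟩ := exists_autGroup_of_mem F hθ hθS
        have h1 : lam (v⁻¹ * x) = 1 :=
          hlam _ (Subgroup.subset_closure ⟨α, hα, v, by rw [hαe]; simp [hve]⟩)
        rw [map_mul, map_inv, inv_mul_eq_one] at h1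
        rw [hd, h1]
      · ext t
        simp only [Finset.mem_filter, Finset.mem_univ, true_and, Finset.mem_singleton, MulAction.mem_orbit_iff]
        exact ⟨fun ⟨s, hs⟩ => by rw [← hs, hall], fun h => ⟨1, by rw [h, one_smul]⟩⟩
    · obtain ⟨M, hMn, hMi, hTM⟩ := exists_index_prime hS (T := MulAction.stabilizer S t₀) (fun h => hall fun s => by
        have : s ∈ MulAction.stabilizer S t₀ := h ▸ Subgroup.mem_top s
        exact MulAction.mem_stabilizer_iff.1 this)
      by_cases hxM : x ∈ M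
      swap
      · refine hlong _ (fun t => ?_) fun t ht htx => hxM ?_
        · simp only [Finset.mem_filter, Finset.mem_univ, true_and]
          rw [← MulAction.orbit_eq_iff, ← MulAction.orbit_eq_iff, MulAction.orbit_eq_iff.2 (MulAction.mem_orbit t x)]
        · simp only [Finset.mem_filter, Finset.mem_univ, true_and, MulAction.mem_orbit_iff] at ht
          obtain ⟨g, rfl⟩ := ht
          have hst : g⁻¹ * x * g ∈ MulAction.stabilizer S t₀ := by
            rw [MulAction.mem_stabilizer_iff, mul_smul, mul_smul, htx, inv_smul_smul]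
          have := hMn.conj_mem _ (hTM hst) g
          simpa [mul_assoc] using this
      obtain ⟨s, hs⟩ : ∃ s : S, s ∉ M := by
        by_contra h
        push Not at h
        rw [(Subgroup.eq_top_iff' M).2 h, Subgroup.index_top] at hMi
        exact hp.ne_one hMi.symm
      let O₀ := Finset.univ.filter fun t => t ∈ MulAction.orbit M t₀
      have hO₀ : ∀ t, t ∈ O₀ ↔ ∃ m : M, (m : S) • t₀ = t := fun t => by
        simp [O₀, MulAction.mem_orbit_iff, Subgroup.smul_def]
      have hmem0 : ∀ (u : M) (t : RightOrbits a), t ∈ O₀ → (u : S) • t ∈ O₀ := by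
        intro u t ht
        obtain ⟨w, rfl⟩ := (hO₀ t).1 ht
        exact (hO₀ _).2 ⟨u * w, by rw [Subgroup.coe_mul, mul_smul]⟩
      have hreindex : ∀ (g : S) (u : M), ∏ t ∈ O₀, d g ((u : S) • t) = ∏ t ∈ O₀, d g t := by
        intro g u
        refine Finset.prod_nbij (fun t => (u : S) • t) (fun t ht => hmem0 u t ht)
          (fun t _ t' _ h => smul_left_cancel _ h) (fun t ht => ⟨((u⁻¹ : M) : S) • t, hmem0 _ t ht, ?_⟩) fun t _ => rfl
        show (u : S) • ((u⁻¹ : M) : S) • t = t
        rw [Subgroup.coe_inv, smul_inv_smul]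
      let D : M →* Multiplicative (ZMod p) := MonoidHom.mk' (fun u => ∏ t ∈ O₀, d u t) fun u w => by
        rw [← hreindex u w, ← Finset.prod_mul_distrib]
        exact Finset.prod_congr rfl fun t _ => hcoc u w t
      -- one translate
      have hblock : ∀ i : ℕ, ∏ t ∈ O₀.image (fun t => s ^ i • t), d x t =
          D ⟨(s ^ i)⁻¹ * x * s ^ i, by simpa using hMn.conj_mem x hxM (s ^ i)⁻¹⟩ := by
        intro i
        rw [Finset.prod_image fun t _ t' _ h => smul_left_cancel _ h]
        generalize hy : (⟨(s ^ i)⁻¹ * x * s ^ i, by simpa using hMn.conj_mem x hxM (s ^ i)⁻¹⟩ : M) = y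
        have hxy : x * s ^ i = s ^ i * (y : S) := by rw [← hy]; simp [mul_assoc]
        have key : ∀ t, d x (s ^ i • t) * d (s ^ i) t = d (s ^ i) ((y : S) • t) * d y t := fun t => by
          rw [← hcoc, ← hcoc, hxy]
        have h2 := Finset.prod_congr (s₁ := O₀) rfl fun t _ => key t
        rw [Finset.prod_mul_distrib, Finset.prod_mul_distrib, hreindex (s ^ i) y, mul_comm] at h2
        exact mul_left_cancel h2
      have hlt : ∀ i j : ℕ, i < j → j < p → ∀ t, t ∈ O₀.image (fun t => s ^ i • t) →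
          t ∉ O₀.image (fun t => s ^ j • t) := by
        intro i j hij hjp t hti htj
        obtain ⟨t₁, ht₁, rfl⟩ := Finset.mem_image.1 hti
        obtain ⟨t₂, ht₂, he⟩ := Finset.mem_image.1 htj
        obtain ⟨m₁, rfl⟩ := (hO₀ _).1 ht₁
        obtain ⟨m₂, rfl⟩ := (hO₀ _).1 ht₂
        rw [smul_smul, smul_smul] at he
        have hst : (s ^ i * (m₁ : S))⁻¹ * (s ^ j * (m₂ : S)) ∈ MulAction.stabilizer S t₀ := by
          rw [MulAction.mem_stabilizer_iff, mul_smul, he, inv_smul_smul]
        have h3 := hTM hst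
        rw [mul_inv_rev, show j = i + (j - i) by omega, pow_add, mul_assoc, mul_assoc (s ^ i), inv_mul_cancel_left,
          M.mul_mem_cancel_left (M.inv_mem m₁.2), M.mul_mem_cancel_right m₂.2] at h3
        exact pow_notMem_of_index_prime hMi hs (by omega) (by omega) h3
      have hdisj : ((Finset.range p : Finset ℕ) : Set ℕ).PairwiseDisjoint fun i => O₀.image (fun t => s ^ i • t) := by
        intro i hi j hj hij
        refine Finset.disjoint_left.2 fun t hti htj => ?_
        rcases Nat.lt_or_gt_of_ne hij with h | h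
        · exact hlt i j h (Finset.mem_range.1 hj) t hti htj
        · exact hlt j i h (Finset.mem_range.1 hi) t htj hti
      have hcover : (Finset.univ.filter fun t => t ∈ MulAction.orbit S t₀) =
          (Finset.range p).biUnion fun i => O₀.image (fun t => s ^ i • t) := by
        ext t
        simp only [Finset.mem_filter, Finset.mem_univ, true_and, Finset.mem_biUnion, Finset.mem_image,
          MulAction.mem_orbit_iff, Finset.mem_range]
        constructor
        · rintro ⟨g, rfl⟩
          -- write `g` as a power of `s` times an element of `M`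
          have hcy : ∃ i < p, (s ^ i)⁻¹ * g ∈ M := exists_pow_coset hMi hs g
          obtain ⟨i, hi, him⟩ := hcy
          exact ⟨i, hi, _, (hO₀ _).2 ⟨⟨_, him⟩, rfl⟩, by rw [smul_smul, mul_inv_cancel_left]⟩
        · rintro ⟨i, -, t₁, ht₁, rfl⟩
          obtain ⟨m₁, rfl⟩ := (hO₀ _).1 ht₁
          exact ⟨s ^ i * m₁, mul_smul _ _ _⟩
      rw [hcover, Finset.prod_biUnion hdisj, Finset.prod_congr rfl fun i _ => hblock i]
      haveI := hMn
      exact sum_conj_eq_zero hS hW M hMi D hs ⟨x, hxM⟩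
  -- sum up
  have hV : transferHom hρ x = (lam x)⁻¹ ^ Fintype.card (RightOrbits a) := by
    rw [transferHom_apply]
    refine (Finset.prod_congr (s₂ := Finset.univ) (g := d x) (by ext; simp only [Finset.mem_univ]) fun t _ => rfl).trans ?_
    let cls' : RightOrbits a → MulAction.orbitRel.Quotient S (RightOrbits a) := fun t => Quotient.mk'' t
    let c : RightOrbits a → Multiplicative (ZMod p) := fun t => if ∀ s : S, s • t = t then (lam x)⁻¹ else 1
    have h1 : ∏ t, d x t = ∏ t, c t := by
      rw [← Finset.prod_fiberwise_of_maps_to (g := cls') (t := Finset.univ) (fun t _ => Finset.mem_univ _),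
        ← Finset.prod_fiberwise_of_maps_to (g := cls') (t := Finset.univ) (f := c) (fun t _ => Finset.mem_univ _)]
      refine Finset.prod_congr rfl fun o _ => ?_
      obtain ⟨t₀, rfl⟩ := Quotient.exists_rep o
      have hfib : (Finset.univ.filter fun t => cls' t = Quotient.mk _ t₀) =
          Finset.univ.filter fun t => t ∈ MulAction.orbit S t₀ := by
        ext t
        simp only [Finset.mem_filter, Finset.mem_univ, true_and]
        exact ⟨fun h => MulAction.orbitRel_apply.1 (Quotient.exact h :),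
          fun h => Quotient.sound (MulAction.orbitRel_apply.2 h)⟩
      rw [hfib, horb]
      split_ifs with hall
      · rw [show (Finset.univ.filter fun t => t ∈ MulAction.orbit S t₀) = {t₀} from ?_, Finset.prod_singleton]
        · exact (if_pos hall).symm
        · ext t
          simp only [Finset.mem_filter, Finset.mem_univ, true_and, Finset.mem_singleton, MulAction.mem_orbit_iff]
          exact ⟨fun ⟨s, hs⟩ => by rw [← hs, hall], fun h => ⟨1, by rw [h, one_smul]⟩⟩
      · refine (Finset.prod_eq_one fun t ht => if_neg fun hfix => hall fun s => ?_).symm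
        obtain ⟨g, rfl⟩ := MulAction.mem_orbit_iff.1 (Finset.mem_filter.1 ht).2
        refine smul_left_cancel g ?_
        rw [smul_smul, show g * s = g * s * g⁻¹ * g by group, mul_smul, hfix]
    rw [h1]
    have h2 : ∏ t, c t = (lam x)⁻¹ ^ (MulAction.fixedPoints S (RightOrbits a)).ncard := by
      rw [Finset.prod_ite, Finset.prod_const_one, mul_one, Finset.prod_const]
      congr 1
      rw [Set.ncard_eq_toFinset_card']
      congr 1
      ext t
      simp [MulAction.mem_fixedPoints]
    rw [h2]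
    have h3 := hS.card_modEq_card_fixedPoints (RightOrbits a)
    have hpow : ∀ (q : Multiplicative (ZMod p)) (i j : ℕ), i ≡ j [MOD p] → q ^ i = q ^ j := by
      intro q i j hij
      rw [← Nat.mod_add_div i p, ← Nat.mod_add_div j p, hij, pow_add, pow_add, pow_mul, pow_mul, hA, one_pow, one_pow]
    refine hpow _ _ _ ?_
    rw [Fintype.card_eq_nat_card, ← Nat.card_coe_set_eq]
    exact h3.symm
  have hker : F.focalSubgroup ≤ (transferHom hρ).ker.map S.subtype := by
    rw [FusionSystem.focalSubgroup, Subgroup.closure_le]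
    rintro _ ⟨P, φ, y, hφ, rfl⟩
    obtain ⟨hP, hφS⟩ := F.le_of_mem hφ
    refine ⟨(⟨y, hP y.2⟩ : S)⁻¹ * ⟨φ y, hφS y⟩, ?_, rfl⟩
    show transferHom hρ _ = 1
    rw [map_mul, map_inv, transferHom_map ha hst hρ hφ y (hP y.2), inv_mul_cancel]
  obtain ⟨y, hy, hye⟩ := hker hx
  rw [Subtype.ext hye, SetLike.mem_coe, MonoidHom.mem_ker, hV, hcT, inv_pow, inv_eq_one] at hy
  obtain ⟨k, hk⟩ := exists_pow_inverse hS hn
  rw [← hk x, map_pow, map_pow, hy, one_pow]

/-- Yoshida's control of transfer. -/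
theorem focal_le_topFocal {F : FusionSystem S} {p : ℕ} [Fact p.Prime] (hS : IsPGroup p S) (hF : F.IsSaturated p)
    (hW : ¬ ∃ (W : Sylow p (Equiv.Perm (Fin (p ^ 2))))
      (f : ↥S →* ↥(W : Subgroup (Equiv.Perm (Fin (p ^ 2))))), Function.Surjective f) :
    F.focalSubgroup ≤ topFocal F := by
  classical
  have hp := (Fact.out : p.Prime)
  have htS : topFocal F ≤ S := by
    rw [topFocal, Subgroup.closure_le]
    rintro _ ⟨α, -, x, rfl⟩
    exact S.mul_mem (S.inv_mem x.2) (α x).2
  have hfS : F.focalSubgroup ≤ S := by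
    rw [FusionSystem.focalSubgroup, Subgroup.closure_le]
    rintro _ ⟨P, φ, x, hφ, rfl⟩
    exact S.mul_mem (S.inv_mem ((F.le_of_mem hφ).1 x.2)) ((F.le_of_mem hφ).2 x)
  have hder : ⁅(S : Subgroup Ω), (S : Subgroup Ω)⁆ ≤ topFocal F := by
    refine Subgroup.commutator_le.2 fun g hg h hh => ?_
    obtain ⟨α, hα, hαe⟩ := exists_autGroup_of_mem F (F.conj_mem (P := S) le_rfl hh)
      fun y => S.mul_mem (S.mul_mem hh y.2) (S.inv_mem hh)
    refine Subgroup.subset_closure ⟨α, hα, ⟨g⁻¹, S.inv_mem hg⟩, ?_⟩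
    rw [hαe]
    show ⁅g, h⁆ = (g⁻¹)⁻¹ * (h * g⁻¹ * h⁻¹)
    rw [commutatorElement_def]
    group
  -- modulo the Frattini subgroup
  have hfirst : F.focalSubgroup.subgroupOf S ≤ frattini S ⊔ (topFocal F).subgroupOf S := by
    intro x hx
    by_contra hnot
    obtain ⟨K, hK⟩ := (Set.toFinite {K : Subgroup S | frattini S ⊔ (topFocal F).subgroupOf S ≤ K ∧ x ∉ K}).exists_maximal
      ⟨_, le_rfl, hnot⟩
    obtain ⟨hKle, hxK⟩ := hK.prop
    have hcomm : commutator S ≤ K := (H24.commutator_le_frattini hS).trans (le_sup_left.trans hKle)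
    haveI : K.Normal := Subgroup.Normal.of_commutator_le _ hcomm
    have hpK : ∀ q : S ⧸ K, q ^ p = 1 := fun q => by
      induction q using QuotientGroup.induction_on with
      | _ y => exact (QuotientGroup.eq_one_iff _).2 (hKle (Subgroup.mem_sup_left (H24.pow_mem_frattini hS y)))
    have hgen : Subgroup.zpowers (QuotientGroup.mk' K x) = ⊤ := by
      refine (Subgroup.eq_top_iff' _).2 fun q => ?_
      induction q using QuotientGroup.induction_on with
      | _ y =>
        by_cases hyK : y ∈ K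
        · rw [(QuotientGroup.eq_one_iff y).2 hyK]; exact one_mem _
        have hxs : x ∈ K ⊔ Subgroup.zpowers y := by
          by_contra h
          exact hyK (hK.2 ⟨hKle.trans le_sup_left, h⟩ le_sup_left (Subgroup.mem_sup_right (Subgroup.mem_zpowers y)))
        obtain ⟨k, hk, z, hz, hkz⟩ := Subgroup.mem_sup_of_normal_left.1 hxs
        obtain ⟨i, rfl⟩ := Subgroup.mem_zpowers_iff.1 hz
        have hxi : QuotientGroup.mk' K x = (QuotientGroup.mk' K y) ^ i := by
          rw [← hkz, map_mul, show QuotientGroup.mk' K k = 1 from (QuotientGroup.eq_one_iff k).2 hk, one_mul, map_zpow]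
        have hi : ¬ (p : ℤ) ∣ i := by
          rintro ⟨r, rfl⟩
          rw [zpow_mul, zpow_natCast, hpK, one_zpow] at hxi
          exact hxK ((QuotientGroup.eq_one_iff _).1 hxi)
        obtain ⟨r, q', hrq⟩ : IsCoprime i (p : ℤ) := ((Nat.prime_iff_prime_int.1 hp).coprime_iff_not_dvd.2 hi).symm
        refine Subgroup.mem_zpowers_iff.2 ⟨r, ?_⟩
        show (QuotientGroup.mk' K x) ^ r = QuotientGroup.mk' K y
        conv_rhs => rw [← zpow_one (QuotientGroup.mk' K y), ← hrq, zpow_add, zpow_mul' _ q', zpow_natCast, hpK,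
          one_zpow, mul_one, mul_comm, zpow_mul, ← hxi]
    have hord : orderOf (QuotientGroup.mk' K x) = p :=
      orderOf_eq_prime (hpK _) fun h => hxK ((QuotientGroup.eq_one_iff _).1 h)
    have hcard : Nat.card (S ⧸ K) = p := by
      rw [← Subgroup.card_top (G := S ⧸ K), ← hgen, Nat.card_zpowers, hord]
    haveI : IsCyclic (S ⧸ K) := isCyclic_of_prime_card hcard
    let e : Multiplicative (ZMod p) ≃* S ⧸ K :=
      zmodMulEquivOfGenerator (G := S ⧸ K) (g := QuotientGroup.mk' K x)
        (fun q => hgen ▸ Subgroup.mem_top q) hcard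
    let lam : S →* Multiplicative (ZMod p) := e.symm.toMonoidHom.comp (QuotientGroup.mk' K)
    have h1 := char_kills_focal hS hF hW lam (fun y hy => by
      show e.symm (QuotientGroup.mk' K y) = 1
      rw [show QuotientGroup.mk' K y = 1 from
        (QuotientGroup.eq_one_iff y).2 (hKle (Subgroup.mem_sup_right (Subgroup.mem_subgroupOf.2 hy))), map_one])
      x (Subgroup.mem_subgroupOf.1 hx)
    exact hxK ((QuotientGroup.eq_one_iff _).1 (e.symm.injective (h1.trans e.symm.map_one.symm)))
  -- Tate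
  let Qh : Subgroup S := (Subgroup.closure {y | ∃ β : F.autGroup S, β ∈ pResidual p (F.autGroup S) ∧
    ∃ x : S, y = (x : Ω)⁻¹ * (((β : MulAut S) x : S) : Ω)}).subgroupOf S
  have hQhyp : Qh ≤ (F.hyperfocalSubgroup p).subgroupOf S := by
    refine Subgroup.comap_mono ((Subgroup.closure_le _).2 ?_)
    rintro _ ⟨β, hβ, x, rfl⟩
    exact Subgroup.subset_closure ⟨S, β, x, le_rfl, hβ, rfl⟩
  haveI : Qh.Normal := by
    refine ⟨fun y hy g => Subgroup.mem_subgroupOf.2 ?_⟩
    have hy' := Subgroup.mem_subgroupOf.1 hy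
    rw [Subgroup.coe_mul, Subgroup.coe_mul, Subgroup.coe_inv]
    generalize (y : Ω) = z at hy'
    induction hy' using Subgroup.closure_induction with
    | mem z hz =>
      obtain ⟨β, hβ, x, rfl⟩ := hz
      obtain ⟨γ, hγ, hγe⟩ := exists_autGroup_of_mem F (F.conj_mem (P := S) le_rfl g.2)
        fun y => S.mul_mem (S.mul_mem g.2 y.2) (S.inv_mem g.2)
      refine Subgroup.subset_closure ⟨⟨γ, hγ⟩ * β * ⟨γ, hγ⟩⁻¹, ?_, γ x, ?_⟩
      · exact (H50.pResidual_normal p _).conj_mem β hβ _
      · show _ = ((γ x : S) : Ω)⁻¹ * (((γ ((β : MulAut S) (γ⁻¹ (γ x)))) : S) : Ω)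
        rw [show γ⁻¹ (γ x) = x from γ.symm_apply_apply x, hγe, hγe]
        show (g : Ω) * ((x : Ω)⁻¹ * ((β : MulAut S) x : Ω)) * (g : Ω)⁻¹ =
          ((g : Ω) * x * (g : Ω)⁻¹)⁻¹ * ((g : Ω) * ((β : MulAut S) x : Ω) * (g : Ω)⁻¹)
        group
    | one => simp
    | mul z w _ _ hz hw =>
      rw [show (g : Ω) * (z * w) * (g : Ω)⁻¹ = ((g : Ω) * z * (g : Ω)⁻¹) * ((g : Ω) * w * (g : Ω)⁻¹) by group]
      exact Subgroup.mul_mem _ hz hw
    | inv z _ hz =>
      rw [show (g : Ω) * z⁻¹ * (g : Ω)⁻¹ = ((g : Ω) * z * (g : Ω)⁻¹)⁻¹ by group]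
      exact Subgroup.inv_mem _ hz
  have htop : (topFocal F).subgroupOf S ≤ frattini S ⊔ Qh := by
    obtain ⟨-, T, hT⟩ : F.IsFullyAutomized p S := by
      obtain ⟨Q, ⟨χ, hχ, rfl⟩, hFA, -⟩ := hF S le_rfl
      rwa [range_eq_of_forall_mem F hχ (F.le_of_mem hχ).2] at hFA
    let H : Subgroup (F.autGroup S) :=
      { carrier := {β | ∀ x : S, x⁻¹ * (β : MulAut S) x ∈ frattini S ⊔ Qh}
        one_mem' := fun x => by simp
        mul_mem' := fun {β γ} hβ hγ x => by
          have := Subgroup.mul_mem _ (hγ x) (hβ ((γ : MulAut S) x))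
          simpa [mul_assoc] using this
        inv_mem' := fun {β} hβ x => by
          have := Subgroup.inv_mem _ (hβ ((β : MulAut S).symm x))
          simpa [mul_assoc] using this }
    have hres : pResidual p (F.autGroup S) ≤ H := fun β hβ x =>
      Subgroup.mem_sup_right (Subgroup.mem_subgroupOf.2 (Subgroup.subset_closure ⟨β, hβ, x, rfl⟩))
    have hind : (autInducedBy S S).subgroupOf (F.autGroup S) ≤ H := by
      intro β hβ x
      obtain ⟨g, hg, hge⟩ := mem_autInducedBy.1 (Subgroup.mem_subgroupOf.1 hβ)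
      refine Subgroup.mem_sup_left (H24.commutator_le_frattini hS ?_)
      have : x⁻¹ * (β : MulAut S) x = ⁅x⁻¹, (⟨g, hg⟩ : S)⁆ := by
        apply Subtype.ext
        rw [commutatorElement_def]
        simp [hge, mul_assoc]
      rw [this]
      exact Subgroup.commutator_mem_commutator (Subgroup.mem_top _) (Subgroup.mem_top _)
    have hH : H = ⊤ := top_le_iff.1 (by rw [← H22.pResidual_sup_sylow T, hT]; exact sup_le hres hind)
    intro y hy
    have hle : topFocal F ≤ (frattini S ⊔ Qh).map S.subtype := by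
      rw [topFocal, Subgroup.closure_le]
      rintro _ ⟨α, hα, x, rfl⟩
      have : (⟨α, hα⟩ : F.autGroup S) ∈ H := hH ▸ Subgroup.mem_top _
      exact ⟨_, this x, rfl⟩
    obtain ⟨z, hz, hze⟩ := hle (Subgroup.mem_subgroupOf.1 hy)
    rwa [← Subtype.ext hze]
  have hfoc := H93.focal_eq_hyperfocal_sup_commutator hS hF
  have hhyp : (F.hyperfocalSubgroup p).subgroupOf S ≤ Qh := by
    refine hyperfocal_le_of_le_frattini_sup hS hF Qh hQhyp ?_
    exact (Subgroup.comap_mono (hfoc ▸ le_sup_left)).trans (hfirst.trans (sup_le le_sup_left htop))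
  rw [hfoc, sup_le_iff]
  refine ⟨fun y hy => ?_, hder⟩
  have h := Subgroup.mem_subgroupOf.1 (@hhyp ⟨y, H94.hyperfocal_le F p hy⟩ hy)
  refine (Subgroup.closure_le _).2 ?_ h
  rintro _ ⟨β, -, x, rfl⟩
  exact Subgroup.subset_closure ⟨β, β.2, x, rfl⟩

end Cfsg.Agent.H80.Yoshida
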